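import Mathlib

/-!
Exponent of the unit group of a commutative algebra of dimension at most `n` over a finite field.
-/

set_option autoImplicit false

namespace Cfsg.Agent.H159

open Module Polynomial

/-- `lcm (q^i - 1)` over `1 ≤ i ≤ n`. -/
def lcmQ (q n : ℕ) : ℕ := (Finset.Icc 1 n).lcm (fun i => q ^ i - 1)

theorem dvd_lcmQ {q n i : ℕ} (h1 : 1 ≤ i) (h2 : i ≤ n) : q ^ i - 1 ∣ lcmQ q n :=
  Finset.dvd_lcm (Finset.mem_Icc.2 ⟨h1, h2⟩)

theorem pow_eq_zero_of_finrank {F A : Type*} [Field F] [CommRing A] [Algebra F A]
    [FiniteDimensional F A] {n : ℕ} (hn : finrank F A ≤ n) {x : A} (hx : IsNilpotent x) :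
    x ^ n = 0 := by
  cases subsingleton_or_nontrivial A with
  | inl h => exact Subsingleton.elim _ _
  | inr h =>
    obtain ⟨k, hk⟩ := hx
    have h1 : minpoly F x ∣ X ^ k := minpoly.dvd F x (by simpa using hk)
    obtain ⟨j, -, hj⟩ := (dvd_prime_pow (Polynomial.prime_X (R := F)) k).1 h1
    have h2 : minpoly F x = X ^ j := by
      apply eq_of_monic_of_associated (minpoly.monic (Algebra.IsIntegral.isIntegral x))
        (monic_X_pow j) hj
    have h3 : (minpoly F x).natDegree ≤ finrank F A := minpoly.natDegree_le x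
    rw [h2, natDegree_X_pow] at h3
    have h4 : x ^ j = 0 := by
      have := minpoly.aeval F x
      rw [h2] at this
      simpa using this
    exact pow_eq_zero_of_le (h3.trans hn) h4

theorem unit_pow_lcmQ {F A : Type*} [Field F] [Fintype F] [CommRing A] [Algebra F A]
    [FiniteDimensional F A] (p n e : ℕ) [Fact p.Prime] [CharP F p] (hn : finrank F A ≤ n)
    (he : n ≤ p ^ e) (u : Aˣ) : (u : A) ^ (lcmQ (Fintype.card F) n * p ^ e) = 1 := by
  cases subsingleton_or_nontrivial A with
  | inl h => exact Subsingleton.elim _ _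
  | inr h =>
    have hnil : IsNilpotent ((u : A) ^ (lcmQ (Fintype.card F) n) - 1) := by
      rw [nilpotent_iff_mem_prime]
      intro P hP
      rw [← Ideal.Quotient.eq_zero_iff_mem, map_sub, map_pow, map_one, sub_eq_zero]
      have hA : Finite A := Module.finite_of_finite F
      have hAP : Finite (A ⧸ P) := Finite.of_surjective _ (Ideal.Quotient.mk_surjective (I := P))
      have hmf : Module.Finite F (A ⧸ P) := Module.Finite.of_finite
      have hsurj : Function.Surjective (Ideal.Quotient.mkₐ F P).toLinearMap :=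
        Ideal.Quotient.mk_surjective
      have hle : finrank F (A ⧸ P) ≤ n := (LinearMap.finrank_le_finrank_of_surjective hsurj).trans hn
      have hcard : Nat.card (A ⧸ P) = Fintype.card F ^ finrank F (A ⧸ P) := by
        rw [Module.natCard_eq_pow_finrank (K := F), Nat.card_eq_fintype_card]
      have hpos : 0 < finrank F (A ⧸ P) := by
        rw [Module.finrank_pos_iff]
        infer_instance
      have hfield : IsField (A ⧸ P) := by
        classical
        exact Finite.isField_of_domain (A ⧸ P)
      have hu : IsUnit (Ideal.Quotient.mk P (u : A)) := u.isUnit.map _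
      have h1 : (Ideal.Quotient.mk P (u : A)) ^ (Nat.card (A ⧸ P) - 1) = 1 := by
        let _ := hfield.toField
        let _ := Fintype.ofFinite (A ⧸ P)
        rw [Nat.card_eq_fintype_card]
        exact FiniteField.pow_card_sub_one_eq_one _ hu.ne_zero
      obtain ⟨k, hk⟩ := dvd_lcmQ (q := Fintype.card F) (n := n) hpos hle
      rw [hk, pow_mul, ← hcard, h1, one_pow]
    have h0 := pow_eq_zero_of_finrank hn hnil
    have h1 : ((u : A) ^ (lcmQ (Fintype.card F) n) - 1) ^ p ^ e = 0 := pow_eq_zero_of_le he h0
    have : CharP A p := charP_of_injective_algebraMap' F p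
    rw [sub_pow_char_pow, one_pow, ← pow_mul, sub_eq_zero] at h1
    exact h1

end Cfsg.Agent.H159
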