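import Cfsg.Agent.H159.EndMin

/-!
Orders modulo scalars of units of commutative algebras over a finite field: generators of
extension fields, and `1 + X` in `F[X]/(X^m)`.
-/

set_option autoImplicit false

namespace Cfsg.Agent.H159

open Module Polynomial

variable {F : Type*} [Field F]

/-- The order of a unit modulo scalars. -/
noncomputable def pord (F : Type*) [Field F] {A : Type*} [CommRing A] [Algebra F A] (a : Aˣ) : ℕ :=
  orderOf (QuotientGroup.mk a : Aˣ ⧸ (Units.map (algebraMap F A : F →* A)).range)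

theorem scPow_iff_pord_dvd {A : Type*} [CommRing A] [Nontrivial A] [Algebra F A] (a : Aˣ) (m : ℕ) :
    ScPow F (a : A) m ↔ pord F a ∣ m := by
  unfold pord
  rw [orderOf_dvd_iff_pow_eq_one, ← QuotientGroup.mk_pow, QuotientGroup.eq_one_iff,
    MonoidHom.mem_range]
  constructor
  · rintro ⟨c, hc⟩
    have hc0 : c ≠ 0 := by
      rintro rfl
      rw [map_zero, ← Units.val_pow_eq_pow_val] at hc
      exact (a ^ m).ne_zero hc
    refine ⟨Units.mk0 c hc0, Units.ext ?_⟩
    simp [hc]
  · rintro ⟨c, hc⟩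
    refine ⟨(c : F), ?_⟩
    rw [← Units.val_pow_eq_pow_val, ← hc]
    rfl

theorem exists_psl_of_alg_lt {A : Type*} [CommRing A] [Algebra F A] [FiniteDimensional F A]
    [Nontrivial A] {n : ℕ} (hd : finrank F A < n) (a : Aˣ) :
    ∃ x : Matrix.ProjectiveSpecialLinearGroup (Fin n) F, pord F a ∣ orderOf x := by
  obtain ⟨h, e, hdet, -, -, -, -, hsc, hfin⟩ := exists_end_of_alg hd a
  obtain ⟨x, hx⟩ := exists_psl_of_end hfin h hdet
  refine ⟨x, ?_⟩
  rw [← scPow_iff_pord_dvd]
  exact hsc _ ((hx _).1 (pow_orderOf_eq_one x))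

theorem exists_psl_of_alg_eq {A : Type*} [CommRing A] [Algebra F A] [FiniteDimensional F A]
    [Nontrivial A] {n : ℕ} (hd : finrank F A = n) (a : Aˣ) (ha : Algebra.norm F (a : A) = 1) :
    ∃ x : Matrix.ProjectiveSpecialLinearGroup (Fin n) F, pord F a ∣ orderOf x := by
  obtain ⟨x, hx⟩ := exists_psl_of_end hd (Algebra.lmul F A (a : A))
    (by rw [← Algebra.norm_apply]; exact ha)
  refine ⟨x, ?_⟩
  rw [← scPow_iff_pord_dvd]
  exact (scPow_of_injective (Algebra.lmul F A) (Algebra.lmul_injective (R := F) (A := A))).1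
    ((hx _).1 (pow_orderOf_eq_one x))

/-- In a finite field of characteristic `p`, an element with `x ^ p ^ e = 1` is `1`. -/
theorem eq_one_of_pow_char {K : Type*} [Field K] (p e : ℕ) [Fact p.Prime] [CharP K p] {x : K}
    (h : x ^ p ^ e = 1) : x = 1 := by
  have h1 : (x - 1) ^ p ^ e = 0 := by
    rw [sub_pow_char_pow, h, one_pow, sub_self]
  exact sub_eq_zero.1 (pow_eq_zero_iff (pow_ne_zero _ (Fact.out : p.Prime).ne_zero) |>.1 h1)

/-- The algebra `F[X]/(X^m)` has a unit of norm one and of order `p^e` modulo scalars, `e = clog_p m`. -/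
theorem exists_unipotent_alg (F : Type*) [Field F] (p m : ℕ) [Fact p.Prime] [CharP F p] (hm : 1 < m) :
    ∃ (a : (AdjoinRoot (X ^ m : F[X]))ˣ), Algebra.norm F (a : AdjoinRoot (X ^ m : F[X])) = 1 ∧
      pord F a = p ^ Nat.clog p m := by
  have hp : p.Prime := Fact.out
  have hnt : Nontrivial (AdjoinRoot (X ^ m : F[X])) := AdjoinRoot.nontrivial _ (by
    rw [degree_X_pow]
    exact_mod_cast (by omega : m ≠ 0))
  have hchar : CharP (AdjoinRoot (X ^ m : F[X])) p := charP_of_injective_algebraMap' F p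
  have hzero : (AdjoinRoot.root (X ^ m : F[X])) ^ m = 0 := by
    rw [← AdjoinRoot.mk_X, ← map_pow, AdjoinRoot.mk_self]
  have hpow : (1 + AdjoinRoot.root (X ^ m : F[X])) ^ p ^ Nat.clog p m = 1 := by
    rw [add_pow_char_pow, one_pow, pow_eq_zero_of_le (Nat.le_pow_clog hp.one_lt m) hzero, add_zero]
  obtain ⟨a, ha⟩ := IsUnit.of_pow_eq_one hpow (pow_ne_zero _ hp.ne_zero)
  refine ⟨a, ?_, ?_⟩
  · rw [← ha] at hpow
    have h1 := congrArg (Algebra.norm F) hpow
    rw [map_pow, map_one] at h1
    exact eq_one_of_pow_char p _ h1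
  · have h1 : pord F a ∣ p ^ Nat.clog p m := by
      rw [← scPow_iff_pord_dvd]
      exact ⟨1, by rw [ha, hpow, map_one]⟩
    obtain ⟨j, hj, hj2⟩ := (Nat.dvd_prime_pow hp).1 h1
    rcases Nat.lt_or_ge j (Nat.clog p m) with hlt | hge
    · exfalso
      have h2 : ScPow F (a : AdjoinRoot (X ^ m : F[X])) (p ^ j) := by
        rw [scPow_iff_pord_dvd, hj2]
      obtain ⟨c, hc⟩ := h2
      rw [ha, add_pow_char_pow, one_pow, ← AdjoinRoot.mk_X, ← map_pow, AdjoinRoot.algebraMap_eq,
        ← AdjoinRoot.mk_C, ← map_one (AdjoinRoot.mk _), ← map_add, AdjoinRoot.mk_eq_mk] at hc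
      have hlt2 : p ^ j < m := by
        refine lt_of_le_of_lt ?_ (Nat.pow_pred_clog_lt_self hp.one_lt hm)
        apply Nat.pow_le_pow_right hp.pos
        have : (Nat.clog p m).pred = Nat.clog p m - 1 := rfl
        omega
      have hne : (1 + X ^ p ^ j - C c : F[X]) ≠ 0 := by
        intro h0
        have := congrArg (fun f => coeff f (p ^ j)) h0
        simp [coeff_one, coeff_C, hp.ne_zero] at this
      have h3 := natDegree_le_of_dvd hc hne
      rw [natDegree_X_pow] at h3
      have h4 : (1 + X ^ p ^ j - C c : F[X]).natDegree ≤ p ^ j := by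
        compute_degree
      omega
    · rw [hj2, le_antisymm hj hge]

/-- A finite extension field of degree `i`, with a generator of the multiplicative group. -/
theorem exists_field_gen (F : Type*) [Field F] [Fintype F] (p i : ℕ) [Fact p.Prime] [CharP F p]
    (hi : i ≠ 0) :
    ∃ (K : Type) (_ : Field K) (_ : Algebra F K) (_ : Finite K) (_ : FiniteDimensional F K)
      (a : Kˣ), finrank F K = i ∧ orderOf a = Fintype.card F ^ i - 1 ∧
        Nat.card K = Fintype.card F ^ i := by
  have : NeZero i := ⟨hi⟩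
  obtain ⟨a, ha⟩ := IsCyclic.exists_generator (α := (FiniteField.Extension F p i)ˣ)
  have hc : Nat.card (FiniteField.Extension F p i) = Fintype.card F ^ i := by
    rw [FiniteField.natCard_extension, Nat.card_eq_fintype_card]
  refine ⟨FiniteField.Extension F p i, inferInstance, inferInstance, inferInstance, inferInstance, a,
    FiniteField.finrank_extension F p i, ?_, hc⟩
  rw [orderOf_eq_card_of_forall_mem_zpowers ha, Nat.card_units, hc]

end Cfsg.Agent.H159
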