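import Cfsg.Agent.H159.AlgExp
import Cfsg.Agent.H159.PslEnd

/-!
Scalar powers and minimal polynomials; unipotent and semisimple elements in algebras of given
dimension; extension of a unit of a commutative algebra of dimension `d ≤ n` to an
endomorphism of an `n`-dimensional space.
-/

set_option autoImplicit false

namespace Cfsg.Agent.H159

open Module Polynomial

variable {F : Type*} [Field F]

theorem scPow_iff_dvd {A : Type*} [Ring A] [Algebra F A] (g : A) (m : ℕ) :
    ScPow F g m ↔ ∃ c : F, minpoly F g ∣ X ^ m - C c := by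
  constructor
  · rintro ⟨c, hc⟩
    exact ⟨c, minpoly.dvd F g (by simp [hc])⟩
  · rintro ⟨c, hc⟩
    refine ⟨c, ?_⟩
    obtain ⟨k, hk⟩ := hc
    have := congrArg (aeval g) hk
    rw [map_mul, minpoly.aeval, zero_mul] at this
    simpa [sub_eq_zero] using this

theorem scPow_root_iff {f : F[X]} (m : ℕ) :
    ScPow F (AdjoinRoot.root f) m ↔ ∃ c : F, f ∣ X ^ m - C c := by
  unfold ScPow
  refine exists_congr fun c => ?_
  rw [← AdjoinRoot.mk_eq_zero, map_sub, map_pow, AdjoinRoot.mk_X, AdjoinRoot.mk_C,
    sub_eq_zero, AdjoinRoot.algebraMap_eq]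

theorem scPow_iff_root {A : Type*} [Ring A] [Algebra F A] (g : A) (m : ℕ) :
    ScPow F g m ↔ ScPow F (AdjoinRoot.root (minpoly F g)) m := by
  rw [scPow_iff_dvd, scPow_root_iff]

/-- Every unit endomorphism of a space of dimension `≤ n` has the power with exponent
`lcm (q^i-1) * p^e` equal to one. -/
theorem end_pow_lcmQ [Fintype F] {V : Type*} [AddCommGroup V] [Module F V] [FiniteDimensional F V]
    (p n e : ℕ) [Fact p.Prime] [CharP F p] (hn : finrank F V ≤ n)
    (he : n ≤ p ^ e) (g : End F V) (hg : IsUnit g) :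
    g ^ (lcmQ (Fintype.card F) n * p ^ e) = 1 := by
  have hV : Finite V := Module.finite_of_finite F
  have hE : Finite (End F V) := Finite.of_injective (fun f : End F V => (f : V → V))
    DFunLike.coe_injective
  obtain ⟨u, rfl⟩ := hg
  have hmu0 : minpoly F (u : End F V) ≠ 0 := minpoly.ne_zero (Algebra.IsIntegral.isIntegral _)
  have hk : (u : End F V) ^ orderOf u = 1 := by
    rw [← Units.val_pow_eq_pow_val, pow_orderOf_eq_one, Units.val_one]
  have hpos : 0 < orderOf u := orderOf_pos u
  have hroot : (AdjoinRoot.root (minpoly F (u : End F V))) ^ orderOf u = 1 := by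
    rw [← AdjoinRoot.mk_X, ← map_pow, ← map_one (AdjoinRoot.mk _), AdjoinRoot.mk_eq_mk]
    apply minpoly.dvd
    simp [hk]
  have hunit : IsUnit (AdjoinRoot.root (minpoly F (u : End F V))) :=
    IsUnit.of_pow_eq_one hroot hpos.ne'
  obtain ⟨w, hw⟩ := hunit
  have hfd : FiniteDimensional F (AdjoinRoot (minpoly F (u : End F V))) :=
    (AdjoinRoot.powerBasis hmu0).finite
  have hfr : finrank F (AdjoinRoot (minpoly F (u : End F V))) ≤ n := by
    rw [(AdjoinRoot.powerBasis hmu0).finrank, AdjoinRoot.powerBasis_dim]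
    refine le_trans ?_ hn
    refine le_trans (Polynomial.natDegree_le_of_dvd (LinearMap.minpoly_dvd_charpoly _)
      (LinearMap.charpoly_monic _).ne_zero) ?_
    rw [LinearMap.charpoly_natDegree]
  have h1 := unit_pow_lcmQ (F := F) p n e hfr he w
  rw [hw, ← AdjoinRoot.mk_X, ← map_pow, ← map_one (AdjoinRoot.mk _), AdjoinRoot.mk_eq_mk] at h1
  obtain ⟨k, hk⟩ := h1
  have := congrArg (aeval (u : End F V)) hk
  rw [map_mul, minpoly.aeval, zero_mul] at this
  simpa [sub_eq_zero] using this

/-- There is an endomorphism with a given nonzero determinant, in positive dimension. -/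
theorem exists_det_eq {n : ℕ} (hn : 0 < n) (δ : F) :
    ∃ D : End F (Fin n → F), LinearMap.det D = δ := by
  classical
  refine ⟨Matrix.toLin' (Matrix.diagonal (Function.update 1 ⟨0, hn⟩ δ)), ?_⟩
  rw [LinearMap.det_toLin', Matrix.det_diagonal, Finset.prod_update_of_mem (Finset.mem_univ _)]
  simp

theorem prodMap_pow' {V W : Type*} [AddCommGroup V] [Module F V] [AddCommGroup W] [Module F W]
    (f : End F V) (g : End F W) (m : ℕ) :
    (LinearMap.prodMap f g : End F (V × W)) ^ m = LinearMap.prodMap (f ^ m) (g ^ m) := by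
  induction m with
  | zero => ext <;> simp
  | succ k ih => rw [pow_succ, pow_succ, pow_succ, ih, LinearMap.prodMap_mul]

/-- Realising a unit of a commutative algebra of dimension `d < n` inside `PSL_n`, together with an
idempotent commuting with it. -/
theorem exists_end_of_alg {A : Type*} [CommRing A] [Algebra F A] [FiniteDimensional F A]
    [Nontrivial A] {n : ℕ} (hd : finrank F A < n) (a : Aˣ) :
    ∃ (h e : End F (A × (Fin (n - finrank F A) → F))), LinearMap.det h = 1 ∧ e * e = e ∧
      e ≠ 0 ∧ e ≠ 1 ∧ e * h = h * e ∧ (∀ m, ScPow F h m → ScPow F (a : A) m) ∧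
      finrank F (A × (Fin (n - finrank F A) → F)) = n := by
  have hdet : IsUnit (Algebra.norm F (a : A)) := a.isUnit.map _
  obtain ⟨D, hD⟩ := exists_det_eq (F := F) (n := n - finrank F A) (by omega)
    (Algebra.norm F (a : A))⁻¹
  have hfin : finrank F (A × (Fin (n - finrank F A) → F)) = n := by
    rw [Module.finrank_prod, Module.finrank_fin_fun]
    omega
  refine ⟨LinearMap.prodMap (Algebra.lmul F A (a : A)) D, LinearMap.prodMap 1 0, ?_, ?_, ?_, ?_, ?_,
    ?_, hfin⟩
  · rw [LinearMap.det_prodMap, hD, ← Algebra.norm_apply]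
    exact mul_inv_cancel₀ hdet.ne_zero
  · ext x <;> simp
  · intro h
    have := congrArg (fun f => (f (1, 0)).1) h
    simp at this
  · intro h
    have hpos : 0 < n - finrank F A := by omega
    have := congrArg (fun f => (f (0, fun _ => 1)).2 ⟨0, hpos⟩) h
    simp at this
  · ext x <;> simp
  · rintro m ⟨c, hc⟩
    refine ⟨c, ?_⟩
    rw [prodMap_pow', ← map_pow] at hc
    have := congrArg (fun f => (f (1, 0)).1) hc
    simpa [Algebra.algebraMap_eq_smul_one] using this

end Cfsg.Agent.H159
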