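import Cfsg.Agent.H159.AlgUnits

/-!
Orders of elements of `PSL_n(q)`: multiplying by an element of prime order `r ∣ q - 1`, `r ∤ n`,
when the element commutes with an idempotent; elements whose minimal polynomial is a prime power
of degree `n`.
-/

set_option autoImplicit false

namespace Cfsg.Agent.H159

open Module Polynomial

/-- Elements of an extension fixed by the `q`-power map are in the base field. -/
theorem mem_range_of_pow_card {F K : Type*} [Field F] [Fintype F] [Field K] [Algebra F K] {x : K}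
    (hx : x ^ Fintype.card F = x) : ∃ c : F, algebraMap F K c = x := by
  classical
  have h1 : (X ^ Fintype.card F - X : F[X]) = ∏ c : F, (X - C c) := by
    have h2 : Multiset.card (X ^ Fintype.card F - X : F[X]).roots =
        (X ^ Fintype.card F - X : F[X]).natDegree := by
      rw [FiniteField.roots_X_pow_card_sub_X, FiniteField.X_pow_card_sub_X_natDegree_eq F
        Fintype.one_lt_card]
      rfl
    have hm : (X ^ Fintype.card F - X : F[X]).Monic :=
      monic_X_pow_sub (by rw [degree_X]; exact_mod_cast Fintype.one_lt_card)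
    rw [← prod_multiset_X_sub_C_of_monic_of_roots_card_eq hm h2,
      FiniteField.roots_X_pow_card_sub_X]
    rfl
  have h3 := congrArg (aeval x) h1
  rw [map_prod, map_sub, map_pow, aeval_X, hx, sub_self, eq_comm, Finset.prod_eq_zero_iff] at h3
  obtain ⟨c, -, hc⟩ := h3
  refine ⟨c, ?_⟩
  rw [map_sub, aeval_X, aeval_C, sub_eq_zero] at hc
  exact hc.symm

variable {F : Type*} [Field F] [Fintype F]

/-- A primitive `r`-th root of unity when `r ∣ q - 1`. -/
theorem exists_root_of_unity {r : ℕ} (hrq : r ∣ Fintype.card F - 1) :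
    ∃ ζ : F, IsPrimitiveRoot ζ r := by
  obtain ⟨a, ha⟩ := IsCyclic.exists_generator (α := Fˣ)
  have ho : orderOf a = Fintype.card F - 1 := by
    rw [orderOf_eq_card_of_forall_mem_zpowers ha, Nat.card_units, Nat.card_eq_fintype_card]
  obtain ⟨b, hb⟩ : ∃ b : Fˣ, orderOf b = r := by
    obtain ⟨k, hk⟩ := hrq
    have hpos : 0 < Fintype.card F - 1 := by
      have := Fintype.one_lt_card (α := F); omega
    have hk0 : k ≠ 0 := by rintro rfl; simp at hk; omega
    refine ⟨a ^ k, ?_⟩
    rw [orderOf_pow' a hk0, ho, hk, Nat.gcd_eq_right (Dvd.intro_left r rfl),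
      Nat.mul_div_cancel _ (Nat.pos_of_ne_zero hk0)]
  refine ⟨(b : F), ?_⟩
  rw [IsPrimitiveRoot.coe_units_iff, ← hb]
  exact IsPrimitiveRoot.orderOf b

/-- **Adjoining `r`.** An element commuting with a proper idempotent can be multiplied by an element
of order `r`. -/
theorem exists_mul_r {V : Type*} [AddCommGroup V] [Module F V] [FiniteDimensional F V] {n r : ℕ}
    (hn : finrank F V = n) (hr : r.Prime) (hrq : r ∣ Fintype.card F - 1) (hrn : ¬ r ∣ n)
    (h e : End F V) (hdet : LinearMap.det h = 1) (hee : e * e = e) (he0 : e ≠ 0) (he1 : e ≠ 1)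
    (heh : e * h = h * e) :
    ∃ y : Matrix.ProjectiveSpecialLinearGroup (Fin n) F, (∀ m, y ^ m = 1 → ScPow F h m) ∧
      r ∣ orderOf y := by
  have hVnt : Nontrivial (End F V) := ⟨⟨e, 0, he0⟩⟩
  obtain ⟨ζ, hζ⟩ := exists_root_of_unity (F := F) hrq
  obtain ⟨x, hx⟩ := exists_psl_of_end hn h hdet
  by_cases hrx : r ∣ orderOf x
  · exact ⟨x, fun m hm => (hx m).1 hm, hrx⟩
  -- the element `e + ζ (1 - e)`
  have key : ∀ k : ℕ, (e + ζ • (1 - e)) ^ k = e + ζ ^ k • (1 - e) := by
    intro k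
    induction k with
    | zero => simp
    | succ k ih =>
      rw [pow_succ, ih, mul_add, add_mul, add_mul]
      have h1 : e * (ζ • (1 - e)) = 0 := by
        rw [mul_smul_comm, mul_sub, mul_one, hee, sub_self, smul_zero]
      have h2 : (ζ ^ k • (1 - e)) * e = 0 := by
        rw [smul_mul_assoc, sub_mul, one_mul, hee, sub_self, smul_zero]
      have h3 : (1 - e) * (1 - e) = 1 - e := by
        rw [sub_mul, mul_sub, mul_sub, hee]; simp
      rw [h1, h2, hee, smul_mul_smul_comm, h3, pow_succ]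
      simp
  have hr1 : (e + ζ • (1 - e)) ^ r = 1 := by
    rw [key, hζ.pow_eq_one]; simp
  have hrne : NeZero r := ⟨hr.ne_zero⟩
  obtain ⟨j, -, hj⟩ := hζ.eq_pow_of_pow_eq_one (ξ := LinearMap.det (e + ζ • (1 - e))) (by
    rw [← map_pow, hr1, map_one])
  -- adjust by a scalar
  have hcop : Nat.Coprime n r := ((Nat.Prime.coprime_iff_not_dvd hr).2 hrn).symm
  obtain ⟨i, hi⟩ : ∃ i : ℕ, r ∣ i * n + j := by
    have h1 : IsUnit (n : ZMod r) := (ZMod.isUnit_iff_coprime n r).2 hcop
    obtain ⟨u, hu⟩ := h1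
    refine ⟨(-(j : ZMod r) * ((u⁻¹ : (ZMod r)ˣ) : ZMod r)).val, ?_⟩
    rw [← ZMod.natCast_eq_zero_iff, Nat.cast_add, Nat.cast_mul, ZMod.natCast_val, ZMod.cast_id,
      ← hu, mul_assoc, Units.inv_mul, mul_one, neg_add_cancel]
  set t : End F V := ζ ^ i • (e + ζ • (1 - e)) with ht
  have htr : t ^ r = 1 := by
    rw [ht, _root_.smul_pow, hr1, ← pow_mul, mul_comm i r, pow_mul, hζ.pow_eq_one]; simp
  have htdet : LinearMap.det t = 1 := by
    rw [ht, LinearMap.det_smul, ← hj, hn, ← pow_mul, ← pow_add]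
    obtain ⟨k, hk⟩ := hi
    rw [hk, pow_mul, hζ.pow_eq_one, one_pow]
  have htsc : ∀ k, ScPow F t k → r ∣ k := by
    rintro k ⟨c, hc⟩
    rw [ht, _root_.smul_pow, key, Algebra.algebraMap_eq_smul_one] at hc
    have h1 := congrArg (fun f => e * f) hc
    have h2 := congrArg (fun f => (1 - e) * f) hc
    have h3 : (1 - e) * (1 - e) = 1 - e := by
      rw [sub_mul, mul_sub, mul_sub, hee]; simp
    have h4 : (1 - e) * e = 0 := by rw [sub_mul, one_mul, hee, sub_self]
    have h5 : e * (1 - e) = 0 := by rw [mul_sub, mul_one, hee, sub_self]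
    simp only [mul_smul_comm, mul_add, hee, h5, smul_zero, add_zero, mul_one] at h1
    simp only [mul_smul_comm, mul_add, h3, h4, smul_zero, zero_add, mul_one] at h2
    have h6 : (ζ ^ i) ^ k = c := by
      have h7 : ((ζ ^ i) ^ k - c) • e = 0 := by rw [sub_smul, h1, sub_self]
      rcases smul_eq_zero.1 h7 with h8 | h8
      · exact sub_eq_zero.1 h8
      · exact absurd h8 he0
    have hne : (1 - e) ≠ 0 := fun h => he1 (sub_eq_zero.1 h).symm
    have h9 : (ζ ^ i) ^ k * ζ ^ k = c := by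
      have h7 : ((ζ ^ i) ^ k * ζ ^ k - c) • (1 - e) = 0 := by
        rw [sub_smul, mul_smul, h2, sub_self]
      rcases smul_eq_zero.1 h7 with h8 | h8
      · exact sub_eq_zero.1 h8
      · exact absurd h8 hne
    have hζ0 : ζ ≠ 0 := hζ.ne_zero hr.ne_zero
    rw [← h6] at h9
    have h10 : ζ ^ k = 1 := mul_left_cancel₀ (pow_ne_zero k (pow_ne_zero i hζ0)) (by rw [h9, mul_one])
    exact (hζ.pow_eq_one_iff_dvd k).1 h10
  have hcomm : Commute h t := by
    rw [ht]
    have hce : Commute h e := heh.symm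
    exact ((hce.add_right (((Commute.one_right h).sub_right hce).smul_right ζ)).smul_right (ζ ^ i))
  obtain ⟨y, hy⟩ := exists_psl_of_end hn (h * t) (by rw [map_mul, hdet, htdet, mul_one])
  have hmain : ∀ m, y ^ m = 1 → ScPow F h m := by
    intro m hm
    obtain ⟨c, hc⟩ := (hy m).1 hm
    rw [hcomm.mul_pow] at hc
    have h1 : h ^ (m * r) = algebraMap F _ (c ^ r) := by
      have h2 : (h ^ m * t ^ m) ^ r = h ^ (m * r) := by
        rw [(hcomm.pow_pow m m).mul_pow, ← pow_mul, ← pow_mul, mul_comm m r, pow_mul t, htr]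
        simp
      rw [← h2, hc, map_pow]
    have h3 : orderOf x ∣ m * r := orderOf_dvd_of_pow_eq_one ((hx _).2 ⟨_, h1⟩)
    have h4 : orderOf x ∣ m :=
      (((Nat.Prime.coprime_iff_not_dvd hr).2 hrx).symm).dvd_of_dvd_mul_right h3
    exact (hx m).1 (orderOf_dvd_iff_pow_eq_one.1 h4)
  refine ⟨y, hmain, ?_⟩
  have h1 := hmain _ (pow_orderOf_eq_one y)
  obtain ⟨c, hc⟩ := (hy _).1 (pow_orderOf_eq_one y)
  obtain ⟨d, hd⟩ := h1
  apply htsc
  rw [hcomm.mul_pow, hd] at hc
  have hd0 : d ≠ 0 := by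
    rintro rfl
    rw [map_zero] at hd
    have hu : IsUnit h := by
      rw [LinearMap.isUnit_iff_isUnit_det, hdet]; exact isUnit_one
    exact (hu.pow (orderOf y)).ne_zero hd
  refine ⟨d⁻¹ * c, ?_⟩
  rw [map_mul, ← hc, ← mul_assoc, ← map_mul, inv_mul_cancel₀ hd0, map_one, one_mul]

end Cfsg.Agent.H159
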