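import Mathlib
import Cfsg.Agent.H159.SkUnip
import Cfsg.Agent.H159.SDat
import Cfsg.Agent.H169.OddGlue
import Cfsg.Agent.H171.Typ
import Cfsg.Agent.H193.InvForm

/-!
# Orthogonal decomposition of an isometry of an alternating form (odd characteristic)

The symplectic version of `H169/OddGlue.lean`.
-/

set_option autoImplicit false

namespace Cfsg.Agent.H159.SkGlue

open Module Cfsg.Agent.H159.SkUnip Polynomial
open Cfsg.Agent.H169.OddGlue (res coe_res bres bres_apply coe_pow coe_pow_neg sum_extend OSum)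

section Basic

variable {F : Type*} [Field F] {V : Type*} [AddCommGroup V] [Module F V] {V' : Type*} [AddCommGroup V'] [Module F V']

variable {B : V →ₗ[F] V →ₗ[F] F} {g : V ≃ₗ[F] V} {U W : Submodule F V}
  {B' : V' →ₗ[F] V' →ₗ[F] F} {g' : V' ≃ₗ[F] V'} {U' W' : Submodule F V'}

theorem swap (hs : ∀ u v, B u v = - B v u) (h : OSum B g U W) : OSum B g W U where
  compl := h.compl.symm
  orth := fun u hu w hw => by rw [hs, h.orth w hw u hu, neg_zero]
  invU := h.invW
  invW := h.invU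

/-- gluing isometries -/
theorem glue [FiniteDimensional F V] [FiniteDimensional F V'] (hs : ∀ u v, B u v = - B v u)
    (hs' : ∀ u v, B' u v = - B' v u) (h : OSum B g U W) (h' : OSum B' g' U' W')
    (e₁ : U ≃ₗ[F] U') (he₁ : ∀ u v, bres B' U' (e₁ u) (e₁ v) = bres B U u v)
    (hg₁ : ∀ u, e₁ (res g U h.invU u) = res g' U' h'.invU (e₁ u))
    (e₂ : W ≃ₗ[F] W') (he₂ : ∀ u v, bres B' W' (e₂ u) (e₂ v) = bres B W u v)
    (hg₂ : ∀ u, e₂ (res g W h.invW u) = res g' W' h'.invW (e₂ u)) :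
    ∃ e : V ≃ₗ[F] V', (∀ u v, B' (e u) (e v) = B u v) ∧ ∀ v, e (g v) = g' (e v) := by
  let e : V ≃ₗ[F] V' := (Submodule.prodEquivOfIsCompl U W h.compl).symm ≪≫ₗ (e₁.prodCongr e₂) ≪≫ₗ
    Submodule.prodEquivOfIsCompl U' W' h'.compl
  have he : ∀ (u : U) (w : W), e ((u : V) + w) = (e₁ u : V') + e₂ w := by
    intro u w
    have h1 : (Submodule.prodEquivOfIsCompl U W h.compl).symm ((u : V) + w) = (u, w) := by
      rw [LinearEquiv.symm_apply_eq]; rfl
    change Submodule.prodEquivOfIsCompl U' W' h'.compl ((e₁.prodCongr e₂)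
      ((Submodule.prodEquivOfIsCompl U W h.compl).symm ((u : V) + w))) = _
    rw [h1]; rfl
  refine ⟨e, ?_, ?_⟩
  · intro x y
    obtain ⟨a, ha, b, hb, rfl⟩ := h.exists_add x
    obtain ⟨c, hc, d, hd, rfl⟩ := h.exists_add y
    have h1 := he ⟨a, ha⟩ ⟨b, hb⟩
    have h2 := he ⟨c, hc⟩ ⟨d, hd⟩
    simp only at h1 h2
    rw [h1, h2]
    simp only [map_add, LinearMap.add_apply]
    have h3 := he₁ ⟨a, ha⟩ ⟨c, hc⟩
    have h4 := he₂ ⟨b, hb⟩ ⟨d, hd⟩
    simp only [bres_apply] at h3 h4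
    rw [h3, h4, h.orth a ha d hd, hs b c, h.orth c hc b hb, h'.orth _ (e₁ ⟨a, ha⟩).2 _ (e₂ ⟨d, hd⟩).2,
      hs' (e₂ ⟨b, hb⟩ : V') (e₁ ⟨c, hc⟩ : V'), h'.orth _ (e₁ ⟨c, hc⟩).2 _ (e₂ ⟨b, hb⟩).2]
  · intro x
    obtain ⟨a, ha, b, hb, rfl⟩ := h.exists_add x
    have h1 := he ⟨a, ha⟩ ⟨b, hb⟩
    have h2 := he ⟨g a, h.invU a ha⟩ ⟨g b, h.invW b hb⟩
    simp only at h1 h2
    rw [map_add, h1, h2, map_add]
    have h3 := congrArg Subtype.val (hg₁ ⟨a, ha⟩)
    have h4 := congrArg Subtype.val (hg₂ ⟨b, hb⟩)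
    rw [coe_res] at h3 h4
    rw [← h3, ← h4]
    rfl

/-- the eigenvalue `c = ± 1` splits off orthogonally -/
theorem exists_osum [FiniteDimensional F V] (B : V →ₗ[F] V →ₗ[F] F) (hs : ∀ u v, B u v = - B v u) (g : V ≃ₗ[F] V)
    (hg : ∀ u v, B (g u) (g v) = B u v) (c : F) (hc : c * c = 1) :
    ∃ U W : Submodule F V, OSum B g U W ∧ (∃ p : ℕ, ∀ u ∈ U, ((g.toLinearMap - c • (1 : Module.End F V)) ^ p) u = 0) ∧
      ∀ w ∈ W, g w = c • w → w = 0 := by
  let T : Module.End F V := g.toLinearMap - c • (1 : Module.End F V)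
  obtain ⟨n, h0, hn⟩ := ((Filter.eventually_ge_atTop 1).and T.eventually_isCompl_ker_pow_range_pow).exists
  have hT : ∀ v, T v = g v - c • v := fun v => rfl
  have hcomm : Commute g.toLinearMap T := by
    apply Commute.sub_right (Commute.refl _)
    exact (Commute.one_right _).smul_right c
  have hcomm' : ∀ (p : ℕ) (v : V), (T ^ p) (g v) = g ((T ^ p) v) := by
    intro p v
    have h1 := congrArg (fun S : Module.End F V => S v) ((hcomm.pow_right p).eq)
    exact h1.symm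
  have hadj : ∀ (p : ℕ) (x y : V), B ((T ^ p) x) ((g.toLinearMap ^ p : Module.End F V) y) = (-c) ^ p * B x ((T ^ p) y) := by
    intro p
    induction p with
    | zero => intro x y; simp
    | succ p ih =>
      intro x y
      have h1 : ∀ a b : V, B (T a) (g b) = -c * B a (T b) := by
        intro a b
        rw [hT, hT, map_sub, LinearMap.sub_apply, map_smul, LinearMap.smul_apply, hg, map_sub, map_smul, smul_eq_mul,
          smul_eq_mul]
        linear_combination (- B a b) * hc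
      have e1 : (T ^ (p + 1)) x = T ((T ^ p) x) := by rw [pow_succ', Module.End.mul_apply]
      have e2 : (g.toLinearMap ^ (p + 1) : Module.End F V) y = g ((g.toLinearMap ^ p : Module.End F V) y) := by
        rw [pow_succ', Module.End.mul_apply]; rfl
      have e3 : (T ^ (p + 1)) y = (T ^ p) (T y) := by rw [pow_succ, Module.End.mul_apply]
      have h2 : T ((g.toLinearMap ^ p : Module.End F V) y) = (g.toLinearMap ^ p : Module.End F V) (T y) := by
        have h3 := congrArg (fun S : Module.End F V => S y) ((hcomm.pow_left p).eq)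
        exact h3.symm
      rw [e1, e2, e3, h1, h2, ih, pow_succ]
      ring
  have hinv : ∀ u ∈ LinearMap.ker (T ^ n), g u ∈ LinearMap.ker (T ^ n) := by
    intro u hu
    rw [LinearMap.mem_ker] at hu ⊢
    rw [hcomm', hu, map_zero]
  have hsurj : ∀ p : ℕ, ∀ u ∈ LinearMap.ker (T ^ n), ∃ v ∈ LinearMap.ker (T ^ n),
      (g.toLinearMap ^ p : Module.End F V) v = u := by
    intro p
    induction p with
    | zero => intro u hu; exact ⟨u, hu, by simp⟩
    | succ p ih =>
      intro u hu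
      obtain ⟨w, hw⟩ := (res g (LinearMap.ker (T ^ n)) hinv).surjective ⟨u, hu⟩
      obtain ⟨v, hv, hvw⟩ := ih w w.2
      refine ⟨v, hv, ?_⟩
      rw [pow_succ', Module.End.mul_apply, hvw]
      exact congrArg Subtype.val hw
  refine ⟨LinearMap.ker (T ^ n), LinearMap.range (T ^ n), ⟨hn, ?_, hinv, ?_⟩, ⟨n, fun u hu => hu⟩, ?_⟩
  · rintro u hu _ ⟨x, rfl⟩
    obtain ⟨v, hv, rfl⟩ := hsurj n u hu
    rw [hs, hadj, LinearMap.mem_ker.1 hv, map_zero, mul_zero, neg_zero]
  · rintro _ ⟨v, rfl⟩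
    exact ⟨g v, hcomm' n v⟩
  · intro w hw hgw
    have h1 : T w = 0 := by rw [hT, hgw, sub_self]
    have h2 : w ∈ LinearMap.ker (T ^ n) := by
      rw [LinearMap.mem_ker, show n = (n - 1) + 1 by omega, pow_succ, Module.End.mul_apply, h1, map_zero]
    exact Submodule.disjoint_def.1 hn.disjoint w h2 hw

end Basic


section Types

open Cfsg.Agent.H171 (typ)

variable {F : Type*} [Field F] {V : Type*} [AddCommGroup V] [Module F V] [FiniteDimensional F V]
  {V' : Type*} [AddCommGroup V'] [Module F V'] [FiniteDimensional F V']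

/-- the type, no eigenvalue `1` -/
def HasM (B : V →ₗ[F] V →ₗ[F] F) (g : V ≃ₗ[F] V) (m : ℕ → ℕ) (s : ℕ → Bool) (f : ℕ → F[X]) : Prop :=
  ∃ (U W : Submodule F V) (h : OSum B g U W),
    HasU (bres B U) (-(res g U h.invU).toLinearMap) m s ∧ (∀ w ∈ W, g (g w) = w → w = 0) ∧
      ∀ j, typ (res g W h.invW).toLinearMap j = f j

/-- the type of an isometry -/
def HasO (B : V →ₗ[F] V →ₗ[F] F) (g : V ≃ₗ[F] V) (D : SDat F) : Prop :=
  ∃ (U W : Submodule F V) (h : OSum B g U W),
    HasU (bres B U) (res g U h.invU).toLinearMap (D.a true) (D.s true) ∧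
      HasM (bres B W) (res g W h.invW) (D.a false) (D.s false) D.f

variable {B : V →ₗ[F] V →ₗ[F] F} {g : V ≃ₗ[F] V} {B' : V' →ₗ[F] V' →ₗ[F] F} {g' : V' ≃ₗ[F] V'}

theorem HasM.exists_isometry [Finite F] (h2 : (2 : F) ≠ 0) (hsym : ∀ u v, B u v = - B v u)
    (hnd : ∀ u, (∀ v, B u v = 0) → u = 0) (hsym' : ∀ u v, B' u v = - B' v u)
    (hnd' : ∀ u, (∀ v, B' u v = 0) → u = 0) (hg : ∀ u v, B (g u) (g v) = B u v)
    (hg' : ∀ u v, B' (g' u) (g' v) = B' u v) {m : ℕ → ℕ} {s : ℕ → Bool} {f : ℕ → F[X]}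
    (H : HasM B g m s f) (H' : HasM B' g' m s f) :
    ∃ e : V ≃ₗ[F] V', (∀ u v, B' (e u) (e v) = B u v) ∧ ∀ v, e (g v) = g' (e v) := by
  obtain ⟨U, W, h, hU, hW, hf⟩ := H
  obtain ⟨U', W', h', hU', hW', hf'⟩ := H'
  obtain ⟨e₁, he₁, hg₁⟩ := hU.exists_isometry h2 (B := bres B U) (B' := bres B' U')
    (fun u v => hsym u v) (h.nondeg hnd) (fun u v => hsym' u v) (h'.nondeg hnd')
    (fun u v => by
      rw [LinearMap.neg_apply, LinearMap.neg_apply, map_neg, map_neg, LinearMap.neg_apply, neg_neg]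
      exact hg u v)
    (fun u v => by
      rw [LinearMap.neg_apply, LinearMap.neg_apply, map_neg, map_neg, LinearMap.neg_apply, neg_neg]
      exact hg' u v) hU'
  obtain ⟨x, hx⟩ := Cfsg.Agent.H171.exists_equiv_of_typ_eq (T := (res g W h.invW).toLinearMap)
    (U := (res g' W' h'.invW).toLinearMap) (fun j => by rw [hf, hf'])
  obtain ⟨e₂, hg₂, he₂⟩ := Cfsg.Agent.H193.InvForm.exists_isometry (bres B W) (bres B' W') (-1)
    ((swap hsym h).nondeg hnd) ((swap hsym' h').nondeg hnd') (fun u v => by rw [neg_one_mul]; exact hsym v u)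
    (fun u v => by rw [neg_one_mul]; exact hsym' v u) (res g W h.invW) (res g' W' h'.invW) (fun u v => hg u v)
    (fun u v => hg' u v) (fun v hv => Subtype.ext (hW v v.2 (congrArg Subtype.val hv))) x hx
  refine glue hsym hsym' h h' e₁ he₁ (fun u => ?_) e₂ he₂ hg₂
  have h3 := hg₁ u
  rw [LinearMap.neg_apply, LinearMap.neg_apply, map_neg, neg_inj] at h3
  exact h3

/-- **Isometries of the same type are equivalent.** -/
theorem HasO.exists_isometry [Finite F] (h2 : (2 : F) ≠ 0) (hsym : ∀ u v, B u v = - B v u)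
    (hnd : ∀ u, (∀ v, B u v = 0) → u = 0) (hsym' : ∀ u v, B' u v = - B' v u)
    (hnd' : ∀ u, (∀ v, B' u v = 0) → u = 0) (hg : ∀ u v, B (g u) (g v) = B u v)
    (hg' : ∀ u v, B' (g' u) (g' v) = B' u v) {D : SDat F} (H : HasO B g D) (H' : HasO B' g' D) :
    ∃ e : V ≃ₗ[F] V', (∀ u v, B' (e u) (e v) = B u v) ∧ ∀ v, e (g v) = g' (e v) := by
  obtain ⟨U, W, h, hU, hW⟩ := H
  obtain ⟨U', W', h', hU', hW'⟩ := H'
  obtain ⟨e₁, he₁, hg₁⟩ := hU.exists_isometry h2 (B := bres B U) (B' := bres B' U')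
    (fun u v => hsym u v) (h.nondeg hnd) (fun u v => hsym' u v) (h'.nondeg hnd')
    (fun u v => hg u v) (fun u v => hg' u v) hU'
  obtain ⟨e₂, he₂, hg₂⟩ := hW.exists_isometry h2 (B := bres B W) (B' := bres B' W') (fun u v => hsym u v) ((swap hsym h).nondeg hnd)
    (fun u v => hsym' u v) ((swap hsym' h').nondeg hnd') (fun u v => hg u v) (fun u v => hg' u v) hW'
  exact glue hsym hsym' h h' e₁ he₁ hg₁ e₂ he₂ hg₂


end Types

section Exists

open Cfsg.Agent.H171 (typ typ_pal typ_even typ_eval_ne typ_zero typ_big sum_typ)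

universe u

variable {F : Type*} [Field F] {V : Type u} [AddCommGroup V] [Module F V] [FiniteDimensional F V]
  {B : V →ₗ[F] V →ₗ[F] F} {g : V ≃ₗ[F] V}

theorem exists_hasM [Finite F] (h2 : (2 : F) ≠ 0) (hsym : ∀ u v, B u v = - B v u)
    (hnd : ∀ u, (∀ v, B u v = 0) → u = 0) (hg : ∀ u v, B (g u) (g v) = B u v) (h1 : ∀ v, g v = v → v = 0) :
    ∃ (m : ℕ → ℕ) (s : ℕ → Bool) (f : ℕ → F[X]), HasM B g m s f ∧ m 0 = 0 ∧ (∀ i, Odd i → Even (m i)) ∧
      (∀ i, s i = true → Even i ∧ 0 < m i) ∧ (∀ i, finrank F V < i → m i = 0 ∧ f i = 1) ∧ f 0 = 1 ∧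
      (∀ j, (f j).Monic ∧ (f j).reverse = f j ∧ (f j).eval 1 ≠ 0 ∧ (f j).eval (-1) ≠ 0 ∧ Even (f j).natDegree) ∧
      ∀ n, finrank F V ≤ n → ∑ j ∈ Finset.range (n + 1), j * ((f j).natDegree + m j) = finrank F V := by
  obtain ⟨U, W, h, ⟨p, hp⟩, hW⟩ := exists_osum B hsym g hg (-1) (by ring)
  have hU : ∀ u v, bres B U ((-(res g U h.invU).toLinearMap) u) ((-(res g U h.invU).toLinearMap) v) = bres B U u v := by
    intro u v
    rw [LinearMap.neg_apply, LinearMap.neg_apply, map_neg, map_neg, LinearMap.neg_apply, neg_neg]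
    exact hg u v
  have hW1 : ∀ w : W, res g W h.invW w = w → w = 0 := fun w hw => Subtype.ext (h1 w (congrArg Subtype.val hw))
  have hW2 : ∀ w : W, res g W h.invW w = -w → w = 0 := fun w hw =>
    Subtype.ext (hW w w.2 (by rw [neg_one_smul]; exact congrArg Subtype.val hw))
  obtain ⟨m, s, H, h3, h4, h5, h6, h7⟩ := exists_hasU h2 (bres B U) (fun u v => hsym u v) (h.nondeg hnd)
    (-(res g U h.invU).toLinearMap) hU (p := p) (by
      apply LinearMap.ext
      intro u
      apply Subtype.ext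
      rw [coe_pow_neg, hp u u.2, smul_zero]
      rfl)
  have hr := h.finrank
  refine ⟨m, s, fun j => typ (res g W h.invW).toLinearMap j, ⟨U, W, h, H, ?_, fun j => rfl⟩, h3, h4, h5, ?_,
    typ_zero _, ?_, ?_⟩
  · intro w hw hgg
    have h8 : g w - w = 0 := by
      apply hW _ (W.sub_mem (h.invW w hw) hw)
      rw [map_sub, hgg, neg_one_smul]
      abel
    exact h1 w (sub_eq_zero.1 h8)
  · intro i hi
    exact ⟨h6 i (by omega), typ_big _ (by omega)⟩
  · intro j
    have h8 := typ_pal (bres B W) ((swap hsym h).nondeg hnd) (res g W h.invW) (fun u v => hg u v) hW1 j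
    refine ⟨h8.1, h8.2, ?_, ?_, ?_⟩
    · exact typ_eval_ne (fun v hv => hW1 v (by rw [one_smul] at hv; exact hv)) j
    · exact typ_eval_ne (fun v hv => hW2 v (by rw [neg_one_smul] at hv; exact hv)) j
    · exact typ_even (bres B W) ((swap hsym h).nondeg hnd) (res g W h.invW) (fun u v => hg u v) hW1 hW2 j
  · intro n hn
    have h8 := sum_extend (n := n) h6 (by omega) h7
    have h9 := sum_typ (res g W h.invW).toLinearMap (n := n) (by omega)
    simp only [mul_add, Finset.sum_add_distrib]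
    rw [h8, h9]
    omega

/-- **Every isometry has a type.** -/
theorem exists_hasO [Finite F] (h2 : (2 : F) ≠ 0) (hsym : ∀ u v, B u v = - B v u)
    (hnd : ∀ u, (∀ v, B u v = 0) → u = 0) (hg : ∀ u v, B (g u) (g v) = B u v) {N : ℕ} (hN : finrank F V = N) :
    ∃ D : SDat F, D.Ok N ∧ HasO B g D := by
  obtain ⟨U, W, h, ⟨p, hp⟩, hW⟩ := exists_osum B hsym g hg 1 (by ring)
  have hr := h.finrank
  obtain ⟨m, s, H, h3, h4, h5, h6, h7⟩ := exists_hasU h2 (bres B U) (fun u v => hsym u v) (h.nondeg hnd)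
    (res g U h.invU).toLinearMap (fun u v => hg u v) (p := p) (by
      have h8 : ((res g U h.invU).toLinearMap - 1 : Module.End F U) =
          ((res g U h.invU).toLinearMap - (1 : F) • (1 : Module.End F U)) := by
        rw [one_smul]
      rw [h8]
      ext u
      rw [Cfsg.Agent.H169.OddGlue.coe_pow, hp u u.2]
      rfl)
  obtain ⟨m', s', f, H', k1, k2, k3, k4, k5, k6, k7⟩ := exists_hasM h2 (B := bres B W) (g := res g W h.invW)
    (fun u v => hsym u v) ((swap hsym h).nondeg hnd) (fun u v => hg u v)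
    (fun w hw => Subtype.ext (hW w w.2 (by rw [one_smul]; exact congrArg Subtype.val hw)))
  refine ⟨⟨f, fun e => if e = true then m else m', fun e => if e = true then s else s'⟩,
    ⟨fun j => (k6 j).1, fun j => (k6 j).2.1, fun j => (k6 j).2.2.1, fun j => (k6 j).2.2.2.1, fun j => (k6 j).2.2.2.2,
    ⟨k5, ?_⟩, ?_, ?_, ?_, ?_⟩, ?_⟩
  · rintro (_ | _)
    · exact k1
    · exact h3
  · intro j hj
    refine ⟨(k4 j (by omega)).2, ?_⟩
    rintro (_ | _)
    · exact (k4 j (by omega)).1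
    · exact h6 j (by omega)
  · rintro (_ | _) j hj
    · exact k2 j hj
    · exact h4 j hj
  · rintro (_ | _) j hj
    · exact k3 j hj
    · exact h5 j hj
  · have h8 := sum_extend (n := N) h6 (by omega) h7
    have h9 := k7 N (by omega)
    have h10 : ∀ j, j * ((f j).natDegree + m j + m' j) = j * ((f j).natDegree + m' j) + j * m j := by
      intro j; ring
    change ∑ j ∈ Finset.range (N + 1), j * ((f j).natDegree + m j + m' j) = N
    simp only [h10, Finset.sum_add_distrib]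
    rw [h8, h9]
    omega
  · exact ⟨U, W, h, H, H'⟩

end Exists

end Cfsg.Agent.H159.SkGlue
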