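import Cfsg.Agent.H159.SDat
import Cfsg.Agent.H151.SpCount

/-!
The normal forms `SDat` of isometries of alternating forms (odd characteristic) are encoded by the
data counted in `H151/SpCount.lean`.
-/

set_option autoImplicit false

namespace Cfsg.Agent.H159

open Polynomial

variable {F : Type*} [Field F]

/-- half of the even part of the multiplicity -/
def SDat.b (D : SDat F) (e : Bool) (j : ℕ) : ℕ :=
  D.a e j / 2 - (if Even (D.a e j) ∧ D.s e j = true then 1 else 0)

/-- the rest of the multiplicity -/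
def SDat.r (D : SDat F) (e : Bool) (j : ℕ) : ℕ :=
  (if D.s e j = true then 1 else 0) + (if (Even (D.a e j) ↔ D.s e j = true) then 1 else 0)

theorem SDat.Ok.mult {N : ℕ} {D : SDat F} (h : D.Ok N) (e : Bool) (j : ℕ) :
    2 * D.b e j + D.r e j = D.a e j := by
  unfold SDat.b SDat.r
  have h1 := h.s_imp e j
  rcases Nat.even_or_odd (D.a e j) with he | ho
  · obtain ⟨k, hk⟩ := he
    cases hs : D.s e j
    · simp [hk]
      omega
    · obtain ⟨-, h2⟩ := h1 hs
      simp [hk]
      omega
  · have hne : ¬ Even (D.a e j) := Nat.not_even_iff_odd.2 ho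
    obtain ⟨k, hk⟩ := ho
    cases hs : D.s e j
    · simp [hne]; omega
    · simp [hne]; omega

theorem SDat.Ok.r_odd {N : ℕ} {D : SDat F} (h : D.Ok N) (e : Bool) {j : ℕ} (hj : Odd j) :
    D.r e j = 0 ∧ D.s e j = false := by
  have h1 : D.s e j = false := by
    cases hs : D.s e j
    · rfl
    · exact absurd (h.s_imp e j hs).1 (Nat.not_even_iff_odd.2 hj)
  refine ⟨?_, h1⟩
  unfold SDat.r
  have h2 := h.a_even e j hj
  simp [h1, h2]

theorem SDat.Ok.r_zero {N : ℕ} {D : SDat F} (h : D.Ok N) (e : Bool) {j : ℕ} (hj : D.a e j = 0) :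
    D.b e j = 0 ∧ D.s e j = false := by
  have h1 : D.s e j = false := by
    cases hs : D.s e j
    · rfl
    · have := (h.s_imp e j hs).2
      omega
  refine ⟨?_, h1⟩
  unfold SDat.b
  simp [hj]

/-- the polynomial -/
noncomputable def SDat.g (D : SDat F) (j : ℕ) : F[X] :=
  D.f j * (X - C 1) ^ (2 * D.b true j) * (X - C (-1)) ^ (2 * D.b false j)

/-- the indicator of the subset -/
def SDat.tb (D : SDat F) (j : ℕ) : Fin 4 → Bool :=
  ![D.s true j, decide (Even (D.a true j)) == D.s true j, D.s false j,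
    decide (Even (D.a false j)) == D.s false j]

/-- the subset -/
def SDat.t (D : SDat F) (j : ℕ) : Finset (Fin 4) :=
  Finset.univ.filter fun k => D.tb j k = true

theorem beq_iff (P : Prop) [Decidable P] (s : Bool) :
    ((decide P == s) = true) ↔ (P ↔ s = true) := by
  by_cases h : P <;> cases s <;> simp [h]

theorem SDat.card_t (D : SDat F) (j : ℕ) : (D.t j).card = D.r true j + D.r false j := by
  unfold SDat.t SDat.r SDat.tb
  rw [Finset.card_filter, Fin.sum_univ_four]
  simp only [Matrix.cons_val, beq_iff]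
  rw [add_assoc, add_assoc, ← add_assoc]
  congr

theorem SDat.t_inj {D D' : SDat F} {j : ℕ} (h : D.t j = D'.t j) (e : Bool) :
    D.s e j = D'.s e j ∧ (Even (D.a e j) ↔ Even (D'.a e j)) := by
  have h1 : ∀ k, (D.tb j k = true ↔ D'.tb j k = true) := by
    intro k
    have h2 : k ∈ D.t j ↔ k ∈ D'.t j := by rw [h]
    simpa [SDat.t] using h2
  have h0 := h1 0
  have h2 := h1 1
  have h3 := h1 2
  have h4 := h1 3
  simp only [SDat.tb, Matrix.cons_val] at h0 h2 h3 h4
  cases e
  · have h5 : D.s false j = D'.s false j := Bool.eq_iff_iff.2 h3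
    refine ⟨h5, ?_⟩
    rw [← h5, beq_iff, beq_iff] at h4
    by_cases hp : Even (D.a false j) <;> by_cases hp' : Even (D'.a false j) <;>
      cases hs : D.s false j <;> simp [hp, hp', hs] at h4 ⊢
  · have h5 : D.s true j = D'.s true j := Bool.eq_iff_iff.2 h0
    refine ⟨h5, ?_⟩
    rw [← h5, beq_iff, beq_iff] at h2
    by_cases hp : Even (D.a true j) <;> by_cases hp' : Even (D'.a true j) <;>
      cases hs : D.s true j <;> simp [hp, hp', hs] at h2 ⊢

theorem reverse_factor (c : F) (hc : c * c = 1) (k : ℕ) :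
    ((X - C c) ^ (2 * k) : F[X]).reverse = (X - C c) ^ (2 * k) := by
  have h1 : ((X - C c) ^ 2 : F[X]).reverse = (X - C c) ^ 2 := by
    rw [sq, reverse_mul_of_domain]
    have h2 : (X - C c : F[X]).reverse = - C c * (X - C c) := by
      have h3 : (X - C c : F[X]).natDegree = 1 := natDegree_X_sub_C c
      unfold reverse
      rw [h3, reflect_sub, reflect_C]
      have h4 : reflect 1 (X : F[X]) = 1 := by
        have := reflect_monomial (R := F) 1 1
        rw [pow_one] at this
        rw [this, revAt_le le_rfl, Nat.sub_self, pow_zero]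
      rw [h4, pow_one, mul_sub, neg_mul, neg_mul, ← C_mul, hc, C_1]
      ring
    rw [h2]
    have : (-C c * (X - C c)) * (-C c * (X - C c)) = C (c * c) * ((X - C c) * (X - C c)) := by
      rw [C_mul]; ring
    rw [this, hc, C_1, one_mul]
  induction k with
  | zero => rw [mul_zero, pow_zero, ← C_1, reverse_C]
  | succ k ih => rw [mul_add, pow_add, reverse_mul_of_domain, ih, mul_one, h1]

theorem SDat.Ok.g_monic {N : ℕ} {D : SDat F} (h : D.Ok N) (j : ℕ) : (D.g j).Monic :=
  ((h.monic j).mul ((monic_X_sub_C 1).pow _)).mul ((monic_X_sub_C (-1)).pow _)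

theorem SDat.Ok.g_reverse {N : ℕ} {D : SDat F} (h : D.Ok N) (j : ℕ) : (D.g j).reverse = D.g j := by
  unfold SDat.g
  rw [reverse_mul_of_domain, reverse_mul_of_domain, h.pal, reverse_factor 1 (by ring),
    reverse_factor (-1) (by ring)]

theorem SDat.Ok.g_natDegree {N : ℕ} {D : SDat F} (h : D.Ok N) (j : ℕ) :
    (D.g j).natDegree = (D.f j).natDegree + 2 * D.b true j + 2 * D.b false j := by
  unfold SDat.g
  rw [((h.monic j).mul ((monic_X_sub_C (1 : F)).pow _)).natDegree_mul ((monic_X_sub_C (-1 : F)).pow _),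
    (h.monic j).natDegree_mul ((monic_X_sub_C (1 : F)).pow _), (monic_X_sub_C (1 : F)).natDegree_pow,
    (monic_X_sub_C (-1 : F)).natDegree_pow, natDegree_X_sub_C, natDegree_X_sub_C, mul_one, mul_one]

theorem SDat.Ok.g_even {N : ℕ} {D : SDat F} (h : D.Ok N) (j : ℕ) : Even (D.g j).natDegree := by
  rw [h.g_natDegree]
  exact ((h.even j).add (even_two_mul _)).add (even_two_mul _)

theorem SDat.Ok.g_pal {N : ℕ} {D : SDat F} (h : D.Ok N) (j : ℕ) :
    ∃ m, D.g j ∈ Cfsg.Agent.H151.SpCount.Pal F m := by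
  obtain ⟨m, hm⟩ := h.g_even j
  refine ⟨m, h.g_monic j, by omega, ?_⟩
  intro i hi
  have h1 := coeff_reverse (D.g j) i
  rw [h.g_reverse, revAt_le (by omega)] at h1
  rw [h1]
  congr 1
  omega

/-- the total degree of block size `j` -/
theorem SDat.Ok.g_add {N : ℕ} {D : SDat F} (h : D.Ok N) (j : ℕ) :
    (D.g j).natDegree + (D.r true j + D.r false j) = (D.f j).natDegree + D.a true j + D.a false j := by
  rw [h.g_natDegree, ← h.mult true j, ← h.mult false j]
  ring

theorem sum_even_terms (φ : ℕ → ℕ) (n : ℕ) (h0 : φ 0 = 0) (h : ∀ j, Odd j → φ j = 0) :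
    ∑ j ∈ Finset.range (2 * n + 1), φ j = ∑ i ∈ Finset.range n, φ (2 * (i + 1)) := by
  induction n with
  | zero => simp [h0]
  | succ n ih =>
    rw [show 2 * (n + 1) + 1 = 2 * n + 1 + 1 + 1 by ring, Finset.sum_range_succ, Finset.sum_range_succ,
      ih, Finset.sum_range_succ, h (2 * n + 1) ⟨n, rfl⟩, add_zero]
    rfl

theorem SDat.Ok.g_big {n : ℕ} {D : SDat F} (h : D.Ok (2 * n)) {j : ℕ} (hj : n < j) : D.g j = 1 := by
  have h1 : (D.g j).natDegree = 0 := by
    by_cases hj2 : 2 * n < j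
    · obtain ⟨h2, h3⟩ := h.big j hj2
      have h4 := h.g_add j
      rw [h2, h3, h3, natDegree_one] at h4
      omega
    · have h2 : j * ((D.f j).natDegree + D.a true j + D.a false j) ≤ 2 * n := by
        rw [← h.size]
        exact Finset.single_le_sum (f := fun j => j * ((D.f j).natDegree + D.a true j + D.a false j))
          (fun _ _ => Nat.zero_le _) (Finset.mem_range.2 (by omega))
      rw [← h.g_add j, mul_add] at h2
      obtain ⟨m, hm⟩ := h.g_even j
      rcases Nat.eq_zero_or_pos m with rfl | hm0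
      · rw [hm]
      · exfalso
        have h3 : j * 2 ≤ j * (D.g j).natDegree := Nat.mul_le_mul_left j (by omega)
        omega
  exact (h.g_monic j).natDegree_eq_zero.1 h1

theorem SDat.Ok.g_zero {n : ℕ} {D : SDat F} (h : D.Ok (2 * n)) : D.g 0 = 1 := by
  obtain ⟨h2, h3⟩ := h.zero
  have h4 := h.g_add 0
  rw [h2, h3, h3, natDegree_one] at h4
  exact (h.g_monic 0).natDegree_eq_zero.1 (by omega)

/-- the encoding -/
noncomputable def SDat.enc (n : ℕ) (D : SDat F) : (ℕ → F[X]) × (Fin n → Finset (Fin 4)) :=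
  (D.g, fun i => D.t (2 * (i + 1)))

theorem SDat.Ok.enc_mem {n : ℕ} {D : SDat F} (h : D.Ok (2 * n)) :
    D.enc n ∈ Cfsg.Agent.H151.SpCount.Data F n := by
  refine ⟨h.g_pal, ?_, ?_⟩
  · rintro k (rfl | hk)
    · exact h.g_zero
    · exact h.g_big hk
  · have h1 := h.size
    have h2 : ∀ j ∈ Finset.range (2 * n + 1), j * ((D.f j).natDegree + D.a true j + D.a false j) =
        j * (D.g j).natDegree + j * (D.r true j + D.r false j) := by
      intro j _
      rw [← h.g_add j, mul_add]
    rw [Finset.sum_congr rfl h2, Finset.sum_add_distrib] at h1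
    have h3 : ∑ j ∈ Finset.range (2 * n + 1), j * (D.g j).natDegree =
        2 * ∑ j ∈ Finset.range (n + 1), j * ((D.g j).natDegree / 2) := by
      rw [Finset.mul_sum, ← Finset.sum_subset (Finset.range_mono (show n + 1 ≤ 2 * n + 1 by omega))]
      · refine Finset.sum_congr rfl fun j _ => ?_
        obtain ⟨m, hm⟩ := h.g_even j
        rw [hm, show (m + m) / 2 = m by omega]
        ring
      · intro j _ hj
        rw [h.g_big (by rw [Finset.mem_range] at hj; omega), natDegree_one, mul_zero]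
    have h4 : ∑ j ∈ Finset.range (2 * n + 1), j * (D.r true j + D.r false j) =
        2 * Cfsg.Agent.H151.SpCount.wt n (fun i => D.t (2 * ((i : ℕ) + 1))) := by
      rw [sum_even_terms _ n (by rw [zero_mul]) (fun j hj => by
        rw [(h.r_odd true hj).1, (h.r_odd false hj).1, add_zero, mul_zero])]
      unfold Cfsg.Agent.H151.SpCount.wt
      rw [Finset.mul_sum, Finset.sum_range]
      refine Finset.sum_congr rfl fun i _ => ?_
      rw [SDat.card_t]
      ring
    rw [h3, h4] at h1
    show ∑ k ∈ Finset.range (n + 1), k * ((D.g k).natDegree / 2) +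
      Cfsg.Agent.H151.SpCount.wt n (fun i => D.t (2 * ((i : ℕ) + 1))) = n
    omega

theorem factor_inj (h2 : (2 : F) ≠ 0) {f f' : F[X]} {b c b' c' : ℕ} (h1 : f.eval 1 ≠ 0)
    (h1' : f'.eval 1 ≠ 0) (hm1 : f.eval (-1) ≠ 0) (hm1' : f'.eval (-1) ≠ 0)
    (h : f * (X - C 1) ^ (2 * b) * (X - C (-1)) ^ (2 * c) =
      f' * (X - C 1) ^ (2 * b') * (X - C (-1)) ^ (2 * c')) : f = f' ∧ b = b' ∧ c = c' := by
  have hne : (1 : F) ≠ -1 := fun h => h2 (by
    have : (1 : F) + 1 = 0 := by nth_rewrite 2 [h]; ring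
    rw [← one_add_one_eq_two]; exact this)
  have hf0 : f ≠ 0 := by rintro rfl; simp at h1
  have hf0' : f' ≠ 0 := by rintro rfl; simp at h1'
  have key : ∀ (f : F[X]) (b c : ℕ), f ≠ 0 → f.eval 1 ≠ 0 → 
      (f * (X - C (1 : F)) ^ (2 * b) * (X - C (-1)) ^ (2 * c)).rootMultiplicity 1 = 2 * b := by
    intro f b c hf0 h1
    have hX1 : (X - C (1 : F)) ^ (2 * b) ≠ 0 := pow_ne_zero _ (X_sub_C_ne_zero _)
    have hX2 : (X - C (-1 : F)) ^ (2 * c) ≠ 0 := pow_ne_zero _ (X_sub_C_ne_zero _)
    rw [rootMultiplicity_mul (mul_ne_zero (mul_ne_zero hf0 hX1) hX2),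
      rootMultiplicity_mul (mul_ne_zero hf0 hX1), rootMultiplicity_X_sub_C_pow,
      rootMultiplicity_eq_zero h1, rootMultiplicity_eq_zero, zero_add, add_zero]
    rw [IsRoot.def, eval_pow, eval_sub, eval_X, eval_C]
    exact pow_ne_zero _ (sub_ne_zero.2 hne)
  have hb : b = b' := by
    have h3 := congrArg (rootMultiplicity (1 : F)) h
    rw [key f b c hf0 h1, key f' b' c' hf0' h1'] at h3
    omega
  subst hb
  have h4 : f * (X - C (-1)) ^ (2 * c) = f' * (X - C (-1)) ^ (2 * c') := by
    have hX1 : (X - C (1 : F)) ^ (2 * b) ≠ 0 := pow_ne_zero _ (X_sub_C_ne_zero _)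
    apply mul_right_cancel₀ hX1
    linear_combination h
  have hc : c = c' := by
    have h3 := congrArg (rootMultiplicity (-1 : F)) h4
    have key2 : ∀ (f : F[X]) (c : ℕ), f ≠ 0 → f.eval (-1) ≠ 0 → 
        (f * (X - C (-1 : F)) ^ (2 * c)).rootMultiplicity (-1) = 2 * c := by
      intro f c hf0 h1
      have hX2 : (X - C (-1 : F)) ^ (2 * c) ≠ 0 := pow_ne_zero _ (X_sub_C_ne_zero _)
      rw [rootMultiplicity_mul (mul_ne_zero hf0 hX2), rootMultiplicity_X_sub_C_pow,
        rootMultiplicity_eq_zero h1, zero_add]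
    rw [key2 f c hf0 hm1, key2 f' c' hf0' hm1'] at h3
    omega
  subst hc
  exact ⟨mul_right_cancel₀ (pow_ne_zero _ (X_sub_C_ne_zero _)) h4, rfl, rfl⟩

theorem SDat.ext' {D D' : SDat F} (hf : D.f = D'.f) (ha : D.a = D'.a) (hs : D.s = D'.s) : D = D' := by
  cases D; cases D'
  simp only at hf ha hs
  rw [hf, ha, hs]

theorem SDat.enc_inj (h2 : (2 : F) ≠ 0) {n : ℕ} {D D' : SDat F} (h : D.Ok (2 * n))
    (h' : D'.Ok (2 * n)) (he : D.enc n = D'.enc n) : D = D' := by
  have hg : ∀ j, D.g j = D'.g j := fun j => congrFun (congrArg Prod.fst he) j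
  have ht : ∀ i : Fin n, D.t (2 * (i + 1)) = D'.t (2 * (i + 1)) := fun i =>
    congrFun (congrArg Prod.snd he) i
  have hfac : ∀ j, D.f j = D'.f j ∧ D.b true j = D'.b true j ∧ D.b false j = D'.b false j := fun j =>
    factor_inj h2 (h.one j) (h'.one j) (h.neg_one j) (h'.neg_one j) (hg j)
  have hb : ∀ e j, D.b e j = D'.b e j := by
    intro e j
    cases e
    · exact (hfac j).2.2
    · exact (hfac j).2.1
  have hsa : ∀ e j, D.s e j = D'.s e j ∧ D.a e j = D'.a e j := by
    intro e j
    rcases Nat.even_or_odd j with hj | hj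
    · by_cases hj0 : j = 0 ∨ 2 * n < j
      · have h3 : D.a e j = 0 ∧ D'.a e j = 0 := by
          rcases hj0 with rfl | hj0
          · exact ⟨h.zero.2 e, h'.zero.2 e⟩
          · exact ⟨(h.big j hj0).2 e, (h'.big j hj0).2 e⟩
        rw [(h.r_zero e h3.1).2, (h'.r_zero e h3.2).2, h3.1, h3.2]
        exact ⟨rfl, rfl⟩
      · push Not at hj0
        obtain ⟨k, hk⟩ := hj
        obtain ⟨i, rfl⟩ : ∃ i, k = i + 1 := ⟨k - 1, by omega⟩
        have h3 := ht ⟨i, by omega⟩
        simp only at h3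
        rw [show 2 * (i + 1) = j by omega] at h3
        obtain ⟨h4, h5⟩ := SDat.t_inj h3 e
        refine ⟨h4, ?_⟩
        rw [← h.mult e j, ← h'.mult e j, hb e j]
        unfold SDat.r
        rw [h4]
        simp only [h5]
    · rw [(h.r_odd e hj).2, (h'.r_odd e hj).2, ← h.mult e j, ← h'.mult e j, (h.r_odd e hj).1,
        (h'.r_odd e hj).1, hb e j]
      exact ⟨rfl, rfl⟩
  exact SDat.ext' (funext fun j => (hfac j).1) (funext fun e => funext fun j => (hsa e j).2)
    (funext fun e => funext fun j => (hsa e j).1)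

end Cfsg.Agent.H159
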