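import Cfsg.Agent.H159.SkGlue
import Cfsg.Agent.H159.SpData

/-!
# The number of conjugacy classes of `Sp_{2n}(q)`, `q` odd: upper bound
-/

set_option autoImplicit false

namespace Cfsg.Agent.H159.SpClassCount

open Module Matrix Cfsg.Agent.H159.SkGlue

variable {F : Type*} [Field F] {n : ℕ}

/-- the symplectic form -/
noncomputable def bf (F : Type*) [Field F] (n : ℕ) :
    (Fin n ⊕ Fin n → F) →ₗ[F] (Fin n ⊕ Fin n → F) →ₗ[F] F := Matrix.toBilin' (Matrix.J (Fin n) F)

theorem bf_apply (u v : Fin n ⊕ Fin n → F) : bf F n u v = u ⬝ᵥ (Matrix.J (Fin n) F *ᵥ v) :=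
  Matrix.toBilin'_apply' _ _ _

theorem bf_symm (u v : Fin n ⊕ Fin n → F) : bf F n u v = - bf F n v u := by
  rw [bf_apply, bf_apply, dotProduct_comm, dotProduct_mulVec v, ← mulVec_transpose,
    Matrix.J_transpose, Matrix.neg_mulVec, _root_.neg_dotProduct, neg_neg]

theorem bf_nondeg (u : Fin n ⊕ Fin n → F) (h : ∀ v, bf F n u v = 0) : u = 0 :=
  (Cfsg.Agent.H194.NilForm.nondeg_of_isUnit
    ((Matrix.isUnit_iff_isUnit_det _).2 (Matrix.isUnit_det_J (Fin n) F))).1 u h

/-- the linear automorphism -/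
noncomputable def lin (A : Matrix.symplecticGroup (Fin n) F) :
    (Fin n ⊕ Fin n → F) ≃ₗ[F] (Fin n ⊕ Fin n → F) :=
  Matrix.toLin'OfInv (M' := (A : Matrix _ _ F))
    (M := ((A⁻¹ : Matrix.symplecticGroup (Fin n) F) : Matrix _ _ F))
    (by rw [← Submonoid.coe_mul, inv_mul_cancel]; rfl)
    (by rw [← Submonoid.coe_mul, mul_inv_cancel]; rfl)

theorem lin_apply (A : Matrix.symplecticGroup (Fin n) F) (v : Fin n ⊕ Fin n → F) :
    lin A v = (A : Matrix _ _ F) *ᵥ v := Matrix.toLin'_apply _ v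

theorem bf_iso (A : Matrix.symplecticGroup (Fin n) F) (u v : Fin n ⊕ Fin n → F) :
    bf F n (lin A u) (lin A v) = bf F n u v := by
  rw [bf_apply, bf_apply, lin_apply, lin_apply, Matrix.mulVec_mulVec, ← Matrix.vecMul_transpose,
    ← Matrix.dotProduct_mulVec, Matrix.mulVec_mulVec, ← Matrix.mul_assoc,
    SymplecticGroup.mem_iff'.1 A.2]

theorem isConj_of_iso (A B : Matrix.symplecticGroup (Fin n) F)
    (z : (Fin n ⊕ Fin n → F) ≃ₗ[F] (Fin n ⊕ Fin n → F))
    (hz : ∀ u v, bf F n (z u) (z v) = bf F n u v) (hz' : ∀ v, z (lin A v) = lin B (z v)) :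
    IsConj A B := by
  have hZ : ∀ v, (LinearMap.toMatrix' z.toLinearMap).mulVec v = z v :=
    fun v => LinearMap.toMatrix'_mulVec z.toLinearMap v
  have hmem : LinearMap.toMatrix' z.toLinearMap ∈ Matrix.symplecticGroup (Fin n) F := by
    rw [SymplecticGroup.mem_iff']
    apply Matrix.toBilin'.injective
    refine LinearMap.ext fun x => LinearMap.ext fun y => ?_
    have h1 := hz x y
    rw [bf_apply, bf_apply, ← hZ, ← hZ] at h1
    rw [Matrix.toBilin'_apply', Matrix.toBilin'_apply', ← h1]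
    generalize LinearMap.toMatrix' z.toLinearMap = A
    rw [← Matrix.vecMul_transpose A x, ← Matrix.dotProduct_mulVec, Matrix.mulVec_mulVec,
      Matrix.mulVec_mulVec, Matrix.mul_assoc]
  rw [_root_.isConj_iff]
  refine ⟨⟨_, hmem⟩, ?_⟩
  rw [mul_inv_eq_iff_eq_mul]
  apply Subtype.ext
  show LinearMap.toMatrix' z.toLinearMap * (A : Matrix _ _ F) =
    (B : Matrix _ _ F) * LinearMap.toMatrix' z.toLinearMap
  apply Matrix.toLin'.injective
  apply LinearMap.ext
  intro v
  rw [Matrix.toLin'_apply, Matrix.toLin'_apply, ← Matrix.mulVec_mulVec, ← Matrix.mulVec_mulVec, hZ, hZ,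
    ← lin_apply, ← lin_apply]
  exact hz' v

/-- **The upper bound for the class number.** -/
theorem card_le [Fintype F] (h2 : (2 : F) ≠ 0) :
    Nat.card (ConjClasses (Matrix.symplecticGroup (Fin n) F)) ≤
      Nat.card (Cfsg.Agent.H151.SpCount.Data F n) := by
  classical
  have hrank : finrank F (Fin n ⊕ Fin n → F) = 2 * n := by
    rw [finrank_fintype_fun_eq_card]; simp; ring
  have h1 : ∀ A : Matrix.symplecticGroup (Fin n) F, ∃ D : SDat F, D.Ok (2 * n) ∧
      HasO (bf F n) (lin A) D := fun A =>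
    exists_hasO h2 bf_symm bf_nondeg (bf_iso A) hrank
  choose D hD hA using h1
  refine Nat.card_le_card_of_injective
    (fun c : ConjClasses (Matrix.symplecticGroup (Fin n) F) =>
      (⟨_, (hD c.exists_rep.choose).enc_mem⟩ : Cfsg.Agent.H151.SpCount.Data F n)) ?_
  intro c c' hcc
  have h4 : D c.exists_rep.choose = D c'.exists_rep.choose :=
    SDat.enc_inj h2 (hD _) (hD _) (congrArg Subtype.val hcc)
  have h5 := hA c.exists_rep.choose
  have h6 := hA c'.exists_rep.choose
  rw [← h4] at h6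
  obtain ⟨z, hz, hz'⟩ := h5.exists_isometry h2 bf_symm bf_nondeg bf_symm bf_nondeg
    (bf_iso _) (bf_iso _) h6
  have h7 := isConj_of_iso _ _ z hz hz'
  rw [← c.exists_rep.choose_spec, ← c'.exists_rep.choose_spec]
  exact ConjClasses.mk_eq_mk_iff_isConj.2 h7

end Cfsg.Agent.H159.SpClassCount
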