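import Cfsg.Prelude.Def_Classical
import Cfsg.Agent.H159.PslEnd
import Cfsg.Agent.S0752
import Cfsg.Agent.LieClassical.SympCenter

/-!
Orders of elements of `PSp_{2n}(F)` in terms of isometries of a non-degenerate alternating space of
dimension `2n`.
-/

set_option autoImplicit false

namespace Cfsg.Agent.H159

open Module LinearMap Matrix

/-- Isometries (as endomorphisms) of a bilinear form. -/
def Isom {F V : Type*} [Field F] [AddCommGroup V] [Module F V] (B : LinearMap.BilinForm F V)
    (g : End F V) : Prop := ∀ u v, B (g u) (g v) = B u v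

theorem psp_pow_eq_one_iff {F : Type*} [Field F] {n : ℕ}
    (g : Matrix.symplecticGroup (Fin n) F) (m : ℕ) :
    ((QuotientGroup.mk g : Cfsg.PSp n F) ^ m = 1) ↔
      ScPow F (g : Matrix (Fin n ⊕ Fin n) (Fin n ⊕ Fin n) F) m := by
  rw [← QuotientGroup.mk_pow, QuotientGroup.eq_one_iff,
    Cfsg.Agent.LieClassical.SympCenter.mem_center_iff]
  unfold ScPow
  refine exists_congr fun c => ?_
  rw [Algebra.algebraMap_eq_smul_one]
  rfl

/-- The standard form. -/
noncomputable def stdSp (F : Type*) [Field F] (n : ℕ) : LinearMap.BilinForm F (Fin n ⊕ Fin n → F) :=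
  Matrix.toBilin' (Matrix.J (Fin n) F)

theorem isom_iff_mem {F : Type*} [Field F] {n : ℕ}
    (A : Matrix (Fin n ⊕ Fin n) (Fin n ⊕ Fin n) F) :
    Isom (stdSp F n) (Matrix.toLinAlgEquiv' A) ↔ A ∈ Matrix.symplecticGroup (Fin n) F := by
  rw [SymplecticGroup.mem_iff']
  constructor
  · intro h
    have h1 : (stdSp F n).comp (Matrix.toLin' A) (Matrix.toLin' A) = stdSp F n := by
      ext i j
      exact h _ _
    have h2 := congrArg LinearMap.BilinForm.toMatrix' h1
    rw [LinearMap.BilinForm.toMatrix'_comp, LinearMap.toMatrix'_toLin', stdSp,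
      LinearMap.BilinForm.toMatrix'_toBilin'] at h2
    exact h2
  · intro h u v
    show stdSp F n (Matrix.toLin' A u) (Matrix.toLin' A v) = _
    have h1 : (stdSp F n).comp (Matrix.toLin' A) (Matrix.toLin' A) = stdSp F n := by
      apply (LinearMap.BilinForm.toMatrix' (n := Fin n ⊕ Fin n) (R₁ := F)).injective
      rw [LinearMap.BilinForm.toMatrix'_comp, LinearMap.toMatrix'_toLin', stdSp,
        LinearMap.BilinForm.toMatrix'_toBilin']
      exact h
    exact congrFun (congrArg DFunLike.coe (congrFun (congrArg DFunLike.coe h1) u)) v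

theorem stdSp_isAlt (F : Type*) [Field F] (n : ℕ) : (stdSp F n).IsAlt := by
  intro v
  rw [stdSp, Matrix.toBilin'_apply']
  have h1 : Matrix.J (Fin n) F *ᵥ v = Sum.elim (fun i => - v (Sum.inr i)) (fun i => v (Sum.inl i)) := by
    rw [Matrix.J, Matrix.fromBlocks_mulVec]
    ext (i | i)
    · simp [Matrix.neg_mulVec]
    · simp
  rw [h1]
  simp only [dotProduct, Fintype.sum_sum_type, Sum.elim_inl, Sum.elim_inr, mul_neg,
    Finset.sum_neg_distrib]
  rw [neg_add_eq_zero]
  exact Finset.sum_congr rfl fun i _ => mul_comm _ _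

theorem stdSp_nondeg (F : Type*) [Field F] (n : ℕ) : (stdSp F n).Nondegenerate := by
  exact LinearMap.BilinForm.nondegenerate_toBilin'_of_det_ne_zero' _
    (Matrix.isUnit_det_J (Fin n) F).ne_zero

theorem exists_end_of_psp {F : Type*} [Field F] {n : ℕ} (x : Cfsg.PSp n F) :
    ∃ g : End F (Fin n ⊕ Fin n → F), Isom (stdSp F n) g ∧ ∀ m, x ^ m = 1 ↔ ScPow F g m := by
  obtain ⟨g, rfl⟩ := QuotientGroup.mk_surjective x
  refine ⟨Matrix.toLinAlgEquiv' (g : Matrix (Fin n ⊕ Fin n) (Fin n ⊕ Fin n) F), ?_, fun m => ?_⟩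
  · rw [isom_iff_mem]; exact g.2
  · rw [psp_pow_eq_one_iff g m]
    exact (scPow_of_injective (Matrix.toLinAlgEquiv' (R := F) (n := Fin n ⊕ Fin n)).toAlgHom
      (Matrix.toLinAlgEquiv' (R := F) (n := Fin n ⊕ Fin n)).injective).symm

/-- A symplectic basis. -/
theorem exists_symp_basis {F V : Type*} [Field F] [AddCommGroup V] [Module F V]
    [FiniteDimensional F V] {n : ℕ} (B : LinearMap.BilinForm F V) (hA : B.IsAlt)
    (hB : B.Nondegenerate) (hn : finrank F V = 2 * n) :
    ∃ b : Basis (Fin n ⊕ Fin n) F V, LinearMap.BilinForm.toMatrix b B = - Matrix.J (Fin n) F := by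
  obtain ⟨m, k, b, h1, h2, h3, h4⟩ := Cfsg.Agent.S0752.result B hA
  have hk : k = 0 := by
    by_contra hk
    have h5 : b (Sum.inr ⟨0, Nat.pos_of_ne_zero hk⟩) = 0 := hB.1 _ (h4 _)
    exact b.ne_zero _ h5
  subst hk
  have hm : m = n := by
    have := Module.finrank_eq_card_basis b
    rw [hn] at this
    simp at this
    omega
  subst hm
  refine ⟨b.reindex (Equiv.sumEmpty _ _), ?_⟩
  have hneg : ∀ x y : V, B x y = - B y x := fun x y => (hA.neg_eq y x).symm
  ext (i | i) (j | j)
  · simp [LinearMap.BilinForm.toMatrix_apply, Matrix.J, h2]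
  · simp [LinearMap.BilinForm.toMatrix_apply, Matrix.J, h1, Matrix.one_apply]
  · rw [LinearMap.BilinForm.toMatrix_apply, hneg]
    simp [Matrix.J, h1, Matrix.one_apply, eq_comm]
  · simp [LinearMap.BilinForm.toMatrix_apply, Matrix.J, h3]

theorem exists_psp_of_end {F V : Type*} [Field F] [AddCommGroup V] [Module F V]
    [FiniteDimensional F V] {n : ℕ} (B : LinearMap.BilinForm F V) (hA : B.IsAlt)
    (hB : B.Nondegenerate) (hn : finrank F V = 2 * n) (g : End F V) (hg : Isom B g) :
    ∃ x : Cfsg.PSp n F, ∀ m, x ^ m = 1 ↔ ScPow F g m := by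
  obtain ⟨b, hb⟩ := exists_symp_basis B hA hB hn
  have hmem : LinearMap.toMatrixAlgEquiv b g ∈ Matrix.symplecticGroup (Fin n) F := by
    rw [SymplecticGroup.mem_iff']
    have h1 : B.comp g g = B := by
      ext u v
      exact hg u v
    have h2 := LinearMap.BilinForm.toMatrix_comp b b B g g
    rw [h1, hb] at h2
    have h3 := congrArg Neg.neg h2
    rw [neg_neg, Matrix.mul_neg, Matrix.neg_mul, neg_neg] at h3
    exact h3.symm
  refine ⟨QuotientGroup.mk ⟨_, hmem⟩, fun m => ?_⟩
  rw [psp_pow_eq_one_iff]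
  exact scPow_of_injective (LinearMap.toMatrixAlgEquiv b).toAlgHom
    (LinearMap.toMatrixAlgEquiv b).injective

end Cfsg.Agent.H159
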