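import Cfsg.Agent.H159.UniOrd
import Cfsg.Agent.H159.FieldRoot
import Cfsg.Agent.H159.SpDich
import Cfsg.Agent.H159.Orders

/-!
Unitary matrices of determinant one: regular unipotent ones and "Singer cycles".
-/

set_option autoImplicit false

namespace Cfsg.Agent.H159

open Polynomial Module
open Cfsg.Agent.H186 (st st_mul st_one st_add st_smul st_st st_algebraMap mem_GU_iff_st st_apply)

section general

variable {F : Type*} [Field F] {n : ℕ}

theorem charpoly_eq_minpoly (B : Matrix (Fin n) (Fin n) F) (h : (minpoly F B).natDegree = n) :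
    B.charpoly = minpoly F B := by
  refine (eq_of_monic_of_dvd_of_natDegree_le (minpoly.monic (Algebra.IsIntegral.isIntegral _))
    (Matrix.charpoly_monic B) (Matrix.minpoly_dvd_charpoly B) ?_)
  rw [Matrix.charpoly_natDegree_eq_dim, Fintype.card_fin, h]

theorem det_eq_minpoly (B : Matrix (Fin n) (Fin n) F) (h : (minpoly F B).natDegree = n) :
    B.det = (-1) ^ n * (minpoly F B).coeff 0 := by
  rw [Matrix.det_eq_sign_charpoly_coeff, charpoly_eq_minpoly B h, Fintype.card_fin]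

theorem X_sub_one_pow_dvd {p k m : ℕ} [Fact p.Prime] [CharP F p] (hk : k ≠ 0) {c : F}
    (h : (X - C 1) ^ k ∣ X ^ m - C c) : p ^ Nat.clog p k ∣ m := by
  have hp : p.Prime := Fact.out
  have h1 : (X - C (1 : F)) ∣ X ^ m - C c := (dvd_pow_self _ hk).trans h
  have hc : c = 1 := by
    rw [dvd_iff_isRoot, IsRoot.def] at h1
    simp [sub_eq_zero] at h1
    exact h1.symm
  subst hc
  rcases eq_or_ne m 0 with rfl | hm
  · exact dvd_zero _
  obtain ⟨j, m', hm', rfl⟩ := Nat.exists_eq_pow_mul_and_not_dvd hm p hp.ne_one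
  have h2 : (X ^ (p ^ j * m') - C 1 : F[X]) = (X ^ m' - 1) ^ p ^ j := by
    rw [sub_pow_char_pow, one_pow, ← pow_mul, mul_comm m', C_1]
  rw [h2, ← geom_sum_mul, mul_pow] at h
  have h3 : ¬ (X - C (1 : F)) ∣ ∑ i ∈ Finset.range m', X ^ i := by
    rw [dvd_iff_isRoot, IsRoot.def, eval_finsetSum]
    simp only [eval_pow, eval_X, one_pow, Finset.sum_const, Finset.card_range, nsmul_eq_mul,
      mul_one]
    intro h0
    exact hm' ((CharP.cast_eq_zero_iff F p m').1 h0)
  have h4 : IsCoprime ((X - C (1 : F)) ^ k) ((∑ i ∈ Finset.range m', X ^ i) ^ p ^ j) :=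
    (((irreducible_X_sub_C (1 : F)).coprime_iff_not_dvd).2 h3).pow
  have h5 := h4.dvd_of_dvd_mul_left h
  rw [← C_1, pow_dvd_pow_iff (X_sub_C_ne_zero 1) (not_isUnit_X_sub_C 1)] at h5
  exact (pow_dvd_pow p ((Nat.clog_le_iff_le_pow hp.one_lt).2 h5)).mul_right m'

theorem selfdual_X_sub_one_pow (σ : F →+* F) (k : ℕ) :
    Associated (dl σ ((X - C (1 : F)) ^ k)) ((X - C 1) ^ k) := by
  rw [dl_pow]
  apply Associated.pow_pow
  have h := dl_X_pow_sub_C σ 1 (1 : F)
  rw [pow_one, map_one σ, C_1, one_mul] at h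
  rw [C_1, h]
  refine ⟨-1, ?_⟩
  simp

theorem map_dl {K : Type*} [Field K] (σ : F →+* F) (φ : K →+* K) (ι : F →+* K)
    (h : ∀ c, ι (σ c) = φ (ι c)) (a : F[X]) : (dl σ a).map ι = dl φ (a.map ι) := by
  unfold dl
  ext j
  rw [coeff_map, coeff_reverse, coeff_reverse, coeff_map, coeff_map, coeff_map, natDegree_map,
    natDegree_map, natDegree_map, h]

end general

variable {F : Type*} [Field F] [Fintype F] {q n : ℕ}

/-- A unitary matrix of determinant one with prescribed self-dual minimal polynomial. -/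
theorem exists_su_minpoly (hK : Fintype.card F = q ^ 2) (σ : F →+* F) (hσ : ∀ c, σ c = c ^ q)
    {a : F[X]} (hmon : a.Monic) (hself : Associated (dl σ a) a) (hd : a.natDegree = n)
    (hdet : (-1) ^ n * a.coeff 0 = 1) :
    ∃ B : Matrix (Fin n) (Fin n) F, st q B * B = 1 ∧ B.det = 1 ∧ minpoly F B = a := by
  have h0 : a.coeff 0 ≠ 0 := by
    intro h
    rw [h, mul_zero] at hdet
    exact zero_ne_one hdet
  obtain ⟨B, hB, hBa⟩ := exists_gu_minpoly hK σ hσ hmon h0 hself hd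
  refine ⟨B, hB, ?_, hBa⟩
  rw [det_eq_minpoly B (by rw [hBa, hd]), hBa, hdet]

theorem exists_uni_unip (hK : Fintype.card F = q ^ 2) (p : ℕ) [Fact p.Prime] [CharP F p]
    (hn : n ≠ 0) :
    ∃ B : Matrix (Fin n) (Fin n) F, st q B * B = 1 ∧ B.det = 1 ∧
      ∀ m, ScPow F B m → p ^ Nat.clog p n ∣ m := by
  obtain ⟨σ, hσ⟩ := Cfsg.Agent.ClassicalGeometry.GUBasic.exists_powHom hK
  obtain ⟨B, hB, hdet, hBa⟩ := exists_su_minpoly (n := n) hK σ hσ (a := (X - C (1 : F)) ^ n)
    ((monic_X_sub_C 1).pow n) (selfdual_X_sub_one_pow σ n) (by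
      rw [natDegree_pow, natDegree_X_sub_C, mul_one]) (by
      rw [coeff_zero_eq_eval_zero, eval_pow, eval_sub, eval_X, eval_C, zero_sub, ← mul_pow]
      simp)
  refine ⟨B, hB, hdet, ?_⟩
  intro m hm
  obtain ⟨c, hc⟩ := (scPow_iff_dvd B m).1 hm
  rw [hBa] at hc
  exact X_sub_one_pow_dvd hn hc

/-- The exponent `Σ_{i<n} (-q)^i = ± (q^n - (-1)^n)/(q+1)`. -/
def uz (q n : ℕ) : ℤ := ∑ i ∈ Finset.range n, (-(q : ℤ)) ^ i

theorem uz_mul (q n : ℕ) : uz q n * (-(q : ℤ) - 1) = (-(q : ℤ)) ^ n - 1 := geom_sum_mul _ _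

theorem gcd_dvd_uz (q n : ℕ) : Nat.gcd n (q + 1) ∣ (uz q n).natAbs := by
  rw [← Int.natCast_dvd]
  have h1 : uz q n ≡ n [ZMOD (Nat.gcd n (q + 1) : ℕ)] := by
    unfold uz
    have h2 : ∀ i ∈ Finset.range n, (-(q : ℤ)) ^ i ≡ 1 [ZMOD (Nat.gcd n (q + 1) : ℕ)] := by
      intro i _
      have h3 : -(q : ℤ) ≡ 1 [ZMOD (Nat.gcd n (q + 1) : ℕ)] := by
        apply Int.ModEq.symm
        rw [Int.modEq_iff_dvd]
        have h4 : ((Nat.gcd n (q + 1) : ℕ) : ℤ) ∣ ((q + 1 : ℕ) : ℤ) :=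
          Int.natCast_dvd_natCast.2 (Nat.gcd_dvd_right _ _)
        have h5 : (-(q : ℤ) - 1) = -((q + 1 : ℕ) : ℤ) := by push_cast; ring
        rw [h5, dvd_neg]
        exact h4
      simpa using h3.pow i
    have := Int.ModEq.sum h2
    simpa using this
  exact (Int.ModEq.dvd_iff h1).2 (Int.natCast_dvd_natCast.2 (Nat.gcd_dvd_left _ _))


theorem natAbs_uz_mul (q n : ℕ) :
    (q + 1) * (uz q n).natAbs = ((-(q : ℤ)) ^ n - 1).natAbs := by
  rw [← uz_mul, Int.natAbs_mul, mul_comm]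
  congr 1
  omega

theorem prod_zpow_sum {G : Type*} [CommGroup G] (l : G) (s : Finset ℕ) (f : ℕ → ℤ) :
    ∏ i ∈ s, l ^ f i = l ^ ∑ i ∈ s, f i := by
  induction s using Finset.induction_on with
  | empty => simp
  | insert j s hj ih => rw [Finset.prod_insert hj, Finset.sum_insert hj, ih, zpow_add]

/-- Shifting a product over a period. -/
theorem prod_shift {M : Type*} [CommMonoid M] (n : ℕ) (g : ℕ → M) (h : g n = g 0)
    (hc : ∀ a b : M, g 0 * a = g 0 * b → a = b) :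
    ∏ i ∈ Finset.range n, g (i + 1) = ∏ i ∈ Finset.range n, g i := by
  apply hc
  rw [mul_comm, ← Finset.prod_range_succ', Finset.prod_range_succ, h, mul_comm]

theorem dl_X_sub_C {K : Type*} [Field K] (φ : K →+* K) (q : ℕ) (hφ : ∀ c, φ c = c ^ q) (u : Kˣ) :
    dl φ (X - C (u : K)) =
      C (-(u : K) ^ q) * (X - C (((u ^ (-(q : ℤ)) : Kˣ) : K))) := by
  have h := dl_X_pow_sub_C φ 1 (u : K)
  rw [pow_one] at h
  rw [h, hφ, zpow_neg, zpow_natCast, mul_sub, ← C_mul, C_neg]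
  have : -(u : K) ^ q * (((u ^ q)⁻¹ : Kˣ) : K) = -1 := by
    rw [neg_mul, Units.val_inv_eq_inv_val, Units.val_pow_eq_pow_val, mul_inv_cancel₀]
    exact pow_ne_zero _ u.ne_zero
  rw [this, C_neg, C_1]
  ring

/-- The element of order `(q^n-(-1)^n)/((q+1) gcd(n,q+1))`. -/
theorem exists_uni_singer (hK : Fintype.card F = q ^ 2) (p a : ℕ) [Fact p.Prime] [CharP F p]
    (hqp : q = p ^ a) (hn : n ≠ 0) :
    ∃ B : Matrix (Fin n) (Fin n) F, st q B * B = 1 ∧ B.det = 1 ∧
      ∀ m, ScPow F B m → (uz q n).natAbs / Nat.gcd n (q + 1) ∣ m := by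
  have hq := Cfsg.Agent.ClassicalGeometry.GUBasic.two_le hK
  obtain ⟨σ, hσ⟩ := Cfsg.Agent.ClassicalGeometry.GUBasic.exists_powHom hK
  obtain ⟨K, _, _, _, _, g, hKn, hg, hcard⟩ := exists_field_gen F p n hn
  have : CharP K p := charP_of_injective_algebraMap' F p
  obtain ⟨φ, hφ⟩ : ∃ φ : K →+* K, ∀ c, φ c = c ^ q :=
    ⟨iterateFrobenius K p a, fun x => by rw [hqp]; exact iterateFrobenius_def p a x⟩
  have hφσ : ∀ c, algebraMap F K (σ c) = φ (algebraMap F K c) := fun c => by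
    rw [hσ, hφ, map_pow]
  -- the element `θ`
  obtain ⟨θ, hθ⟩ : ∃ θ : Kˣ, orderOf θ = ((-(q : ℤ)) ^ n - 1).natAbs := by
    apply exists_orderOf_eq g
    rw [hg, hK, ← Int.natCast_dvd_natCast, Int.natAbs_dvd]
    refine ⟨(-(q : ℤ)) ^ n + 1, ?_⟩
    rw [Nat.cast_sub (Nat.one_le_pow _ _ (by positivity))]
    push_cast
    have : ((q : ℤ) ^ 2) ^ n = ((-(q : ℤ)) ^ n) * ((-(q : ℤ)) ^ n) := by
      rw [← mul_pow]; ring
    rw [this]; ring
  have hθ1 : θ ^ ((-(q : ℤ)) ^ n - 1) = 1 := by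
    rw [← orderOf_dvd_iff_zpow_eq_one, hθ, Int.natAbs_dvd]
  set l : Kˣ := θ ^ (q + 1) with hl
  set y : ℕ → Kˣ := fun i => l ^ ((-(q : ℤ)) ^ i) with hy
  have hyn : y n = y 0 := by
    have h1 : y n = l ^ ((-(q : ℤ)) ^ n - 1) * l ^ ((-(q : ℤ)) ^ 0) := by
      rw [← zpow_add, pow_zero, sub_add_cancel]
    have h2 : l ^ ((-(q : ℤ)) ^ n - 1) = 1 := by
      rw [hl, ← zpow_natCast, ← zpow_mul, mul_comm, zpow_mul, hθ1, one_zpow]
    rw [h1, h2, one_mul]
  have hys : ∀ i, y (i + 1) = (y i) ^ (-(q : ℤ)) := by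
    intro i
    simp only [hy]
    rw [← zpow_mul, pow_succ]
  have hys1 : y (n + 1) = y 1 := by rw [hys n, hyn, ← hys 0]
  have hys2 : ∀ i, ((y (i + 2) : Kˣ) : K) = ((y i : K) ^ q) ^ q := by
    intro i
    have h1 : y (i + 2) = (y i ^ q) ^ q := by
      rw [hys (i + 1), hys i, ← zpow_mul, neg_mul_neg, ← pow_mul, ← Nat.cast_mul, zpow_natCast]
    rw [h1, Units.val_pow_eq_pow_val, Units.val_pow_eq_pow_val]
  set a' : K[X] := ∏ i ∈ Finset.range n, (X - C (y i : K)) with ha'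
  have hmon' : a'.Monic := monic_prod_of_monic _ _ fun i _ => monic_X_sub_C _
  have hdeg' : a'.natDegree = n := by
    rw [ha', natDegree_prod_of_monic _ _ fun i _ => monic_X_sub_C _]
    simp
  have hshift1 : ∏ i ∈ Finset.range n, (X - C (y (i + 1) : K)) = a' :=
    prod_shift n (fun i => (X - C (y i : K))) (by simp only [hyn])
      (fun a b h => mul_left_cancel₀ (X_sub_C_ne_zero _) h)
  have hshift2 : ∏ i ∈ Finset.range n, (X - C (y (i + 2) : K)) = a' := by
    rw [← hshift1]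
    exact prod_shift n (fun i => (X - C (y (i + 1) : K))) (by simp only [hys1, zero_add])
      (fun a b h => mul_left_cancel₀ (X_sub_C_ne_zero _) h)
  have hinv : (a'.map φ).map φ = a' := by
    nth_rewrite 2 [← hshift2]
    rw [ha', Polynomial.map_prod, Polynomial.map_prod]
    refine Finset.prod_congr rfl fun i _ => ?_
    rw [Polynomial.map_sub, Polynomial.map_sub, map_X, map_X, map_C, map_C, hφ, hφ, hys2]
  have hdl : dl φ a' = C (∏ i ∈ Finset.range n, (-(y i : K) ^ q)) * a' := by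
    have h1 : ∀ s : Finset ℕ, dl φ (∏ i ∈ s, (X - C (y i : K))) =
        ∏ i ∈ s, dl φ (X - C (y i : K)) := by
      intro s
      induction s using Finset.induction_on with
      | empty => simp [dl_one]
      | insert j s hj ih => rw [Finset.prod_insert hj, Finset.prod_insert hj, dl_mul, ih]
    rw [ha', h1]
    simp only [dl_X_sub_C φ q hφ, ← hys]
    rw [Finset.prod_mul_distrib, hshift1, map_prod, ← ha']
  have hlift : a' ∈ Polynomial.lifts (algebraMap F K) := by
    rw [Polynomial.lifts_iff_coeff_lifts]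
    intro i
    have h1 := congrArg (fun f => coeff f i) hinv
    simp only [coeff_map, hφ] at h1
    obtain ⟨c, hc⟩ := mem_range_of_pow_card (F := F) (x := a'.coeff i) (by
      rw [hK, sq, pow_mul]; exact h1)
    exact ⟨c, hc⟩
  obtain ⟨b, hb, hbdeg, hbmon⟩ := Polynomial.lifts_and_natDegree_eq_and_monic hlift hmon'
  rw [hdeg'] at hbdeg
  have hprod : ∏ i ∈ Finset.range n, y i = 1 := by
    simp only [hy]
    rw [prod_zpow_sum]
    change l ^ uz q n = 1
    rw [hl, ← zpow_natCast, ← zpow_mul, show (((q + 1 : ℕ) : ℤ)) * uz q n =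
      (uz q n * (-(q : ℤ) - 1)) * (-1) by push_cast; ring, uz_mul, zpow_mul, hθ1, one_zpow]
  have hb0 : (-1) ^ n * b.coeff 0 = 1 := by
    apply (algebraMap F K).injective
    have h1 : algebraMap F K (b.coeff 0) = ∏ i ∈ Finset.range n, (-(y i : K)) := by
      rw [← coeff_map, hb, ha', coeff_zero_prod]
      refine Finset.prod_congr rfl fun i _ => ?_
      simp
    have h2 : ∏ i ∈ Finset.range n, (-(y i : K)) = (-1) ^ n := by
      rw [Finset.prod_neg, Finset.card_range, ← Units.coe_prod, hprod, Units.val_one, mul_one]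
    rw [map_mul, h1, h2, map_one, map_pow, map_neg, map_one, ← mul_pow]
    simp
  have hself : Associated (dl σ b) b := by
    have h1 : b ∣ dl σ b := by
      rw [← Polynomial.map_dvd_map' (algebraMap F K), map_dl σ φ _ hφσ, hb, hdl]
      exact Dvd.intro_left _ rfl
    have h0 : b.coeff 0 ≠ 0 := right_ne_zero_of_mul_eq_one hb0
    exact (associated_of_dvd_of_natDegree_le h1 (dl_ne_zero σ hbmon.ne_zero)
      (natDegree_dl σ h0).le).symm
  obtain ⟨B, hB, hdet, hBb⟩ := exists_su_minpoly hK σ hσ hbmon hself hbdeg hb0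
  refine ⟨B, hB, hdet, ?_⟩
  rintro m ⟨c, hc⟩
  have hcn : c ^ n = 1 := by
    have h1 := congrArg Matrix.det hc
    rw [Matrix.det_pow, hdet, one_pow, Matrix.algebraMap_eq_diagonal, Matrix.det_diagonal] at h1
    simpa using h1.symm
  have hcq : c ^ (q + 1) = 1 := by
    have h1 : st q (B ^ m) * B ^ m = 1 := by
      have h2 : ∀ k, st q (B ^ k) * B ^ k = 1 := by
        intro k
        induction k with
        | zero => rw [pow_zero, st_one hK, mul_one]
        | succ k ih => 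
          rw [pow_succ, st_mul hK, mul_assoc, ← mul_assoc (st q (B ^ k)), ih, one_mul, hB]
      exact h2 m
    rw [hc, st_algebraMap hK, ← map_mul] at h1
    have h2 := congrFun (congrFun h1 ⟨0, by omega⟩) ⟨0, by omega⟩
    simp [Matrix.algebraMap_matrix_apply] at h2
    rw [pow_succ, h2]
  have hcg : c ^ Nat.gcd n (q + 1) = 1 := by
    rw [← orderOf_dvd_iff_pow_eq_one] at hcn hcq ⊢
    exact Nat.dvd_gcd hcn hcq
  have hdvd : b ∣ X ^ m - C c := by
    rw [← hBb]
    exact minpoly.dvd F B (by simp [hc])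
  have hroot : ((l : Kˣ) : K) ^ m = algebraMap F K c := by
    have h1 : aeval (l : K) b = 0 := by
      rw [aeval_def, eval₂_eq_eval_map, hb, ha', eval_prod]
      apply Finset.prod_eq_zero (Finset.mem_range.2 (Nat.pos_of_ne_zero hn))
      simp [hy]
    obtain ⟨w, hw⟩ := hdvd
    have h2 := congrArg (aeval (l : K)) hw
    rw [map_mul, h1, zero_mul] at h2
    simpa [sub_eq_zero] using h2
  have h2 : θ ^ ((q + 1) * (m * Nat.gcd n (q + 1))) = 1 := by
    apply Units.ext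
    have h3 := congrArg (fun z => z ^ Nat.gcd n (q + 1)) hroot
    simp only [← map_pow, hcg, map_one] at h3
    rw [Units.val_one, pow_mul, pow_mul, ← hl, Units.val_pow_eq_pow_val, Units.val_pow_eq_pow_val]
    exact h3
  rw [← orderOf_dvd_iff_pow_eq_one, hθ, ← natAbs_uz_mul] at h2
  have h5 := Nat.dvd_of_mul_dvd_mul_left (Nat.succ_pos q) h2
  obtain ⟨s, hs⟩ := gcd_dvd_uz q n
  have hgpos : 0 < Nat.gcd n (q + 1) := Nat.gcd_pos_of_pos_left _ (Nat.pos_of_ne_zero hn)
  rw [hs, Nat.mul_div_cancel_left _ hgpos]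
  rw [hs, mul_comm m] at h5
  exact Nat.dvd_of_mul_dvd_mul_left hgpos h5

end Cfsg.Agent.H159
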