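import Cfsg.Agent.H159.UniBuild

/-!
The dichotomy for the elements of `PSU_n(q)`.
-/

set_option autoImplicit false

namespace Cfsg.Agent.H159

open Polynomial Module
open Cfsg.Agent.H186 (st st_mul st_one st_add st_smul st_st st_algebraMap mem_GU_iff_st st_apply)

/-- For a sequence of odd period `d`, doubling the indices permutes the product. -/
theorem prod_double {M : Type*} [CommMonoid M] (g : ℕ → M) (e : ℕ)
    (h : ∀ i, g (i + (2 * e + 1)) = g i) :
    ∏ i ∈ Finset.range (2 * e + 1), g i = ∏ i ∈ Finset.range (2 * e + 1), g (2 * i) := by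
  have h1 : ∀ k, ∏ i ∈ Finset.range (2 * k + 1), g i =
      (∏ i ∈ Finset.range (k + 1), g (2 * i)) * ∏ i ∈ Finset.range k, g (2 * i + 1) := by
    intro k
    induction k with
    | zero => simp
    | succ k ih =>
      rw [show 2 * (k + 1) + 1 = 2 * k + 1 + 1 + 1 by ring, Finset.prod_range_succ,
        Finset.prod_range_succ, ih, Finset.prod_range_succ (fun i => g (2 * i)) (k + 1),
        Finset.prod_range_succ (fun i => g (2 * i + 1)) k, show 2 * (k + 1) = 2 * k + 1 + 1 by ring]
      generalize g (2 * k + 1 + 1) = A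
      generalize g (2 * k + 1) = B
      ac_rfl
  rw [h1, show 2 * e + 1 = (e + 1) + e by ring,
    Finset.prod_range_add (fun i => g (2 * i)) (e + 1) e]
  congr 1
  refine Finset.prod_congr rfl fun i _ => ?_
  rw [← h (2 * i + 1)]
  congr 1
  ring

variable {F : Type*} [Field F] [Fintype F] {q : ℕ}

/-- The root of a self-dual irreducible polynomial. -/
theorem uni_root_selfdual (hK : Fintype.card F = q ^ 2) (p a : ℕ) [Fact p.Prime] [CharP F p]
    (hqp : q = p ^ a) (σ : F →+* F) (hσ : ∀ c, σ c = c ^ q)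
    {f : F[X]} (hf : Irreducible f) [hfact : Fact (Irreducible f)] (hff : Associated (dl σ f) f)
    (u : (AdjoinRoot f)ˣ) (hu : (u : AdjoinRoot f) = AdjoinRoot.root f) :
    (∀ i, u ^ ((-(q : ℤ)) ^ (i + f.natDegree)) = u ^ ((-(q : ℤ)) ^ i)) ∧ Odd f.natDegree := by
  have hfx : aeval (AdjoinRoot.root f) f = 0 := by rw [AdjoinRoot.aeval_eq, AdjoinRoot.mk_self]
  have : CharP (AdjoinRoot f) p := charP_of_injective_algebraMap' F p
  obtain ⟨φ, hφ⟩ : ∃ φ : AdjoinRoot f →+* AdjoinRoot f, ∀ c, φ c = c ^ q :=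
    ⟨iterateFrobenius (AdjoinRoot f) p a, fun x => by rw [hqp]; exact iterateFrobenius_def p a x⟩
  have hφσ : ∀ c, φ (algebraMap F (AdjoinRoot f) c) = algebraMap F (AdjoinRoot f) (σ c) :=
    fun c => by rw [hσ, hφ, map_pow]
  have h1 := aeval_dl_inv σ φ hφσ (y := AdjoinRoot.root f) (by rw [← hu]; exact u.ne_zero) hfx
  have h2 : aeval (φ (AdjoinRoot.root f))⁻¹ f = 0 := aeval_eq_zero_of_dvd_aeval_eq_zero hff.dvd h1
  obtain ⟨j, hj⟩ := exists_pow_of_root hf _ h2
  have h3 : u ^ (-(q : ℤ)) = u ^ (Fintype.card F ^ j) := by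
    apply Units.ext
    rw [Units.val_pow_eq_pow_val, hu, ← hj, hφ, zpow_neg, zpow_natCast, Units.val_inv_eq_inv_val,
      Units.val_pow_eq_pow_val, hu]
  have h4 : ∀ i, u ^ ((-(q : ℤ)) ^ i) = u ^ (Fintype.card F ^ (j * i)) := by
    intro i
    induction i with
    | zero => simp
    | succ i ih =>
      rw [pow_succ, zpow_mul, ih, ← zpow_natCast, ← zpow_mul, mul_comm, zpow_mul, h3, zpow_natCast,
        ← pow_mul, ← pow_add, Nat.mul_succ, add_comm j]
  have h5 : u ^ ((-(q : ℤ)) ^ f.natDegree) = u := by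
    rw [h4, mul_comm j]
    apply Units.ext
    rw [Units.val_pow_eq_pow_val]
    exact pow_card_pow_eq hf (u : AdjoinRoot f) j
  constructor
  · intro i
    rw [add_comm i, pow_add, zpow_mul, h5]
  · rw [← Nat.not_even_iff_odd]
    rintro ⟨e, he⟩
    have h6 : (AdjoinRoot.root f) ^ (Fintype.card F ^ e) = AdjoinRoot.root f := by
      rw [← hu, ← Units.val_pow_eq_pow_val]
      congr 1
      have h7 : (-(q : ℤ)) ^ f.natDegree = ((Fintype.card F ^ e : ℕ) : ℤ) := by
        rw [he, ← two_mul, pow_mul, hK]; push_cast; rw [neg_sq]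
      rw [h7, zpow_natCast] at h5
      exact h5
    have h7 := (root_pow_card_iff hf e).1 h6
    have h8 := Nat.eq_zero_of_dvd_of_lt h7 (by have := hf.natDegree_pos; omega)
    have := hf.natDegree_pos
    omega

/-- The norm of the root. -/
theorem norm_root {f : F[X]} (hf : Irreducible f) (hmon : f.Monic) [hfact : Fact (Irreducible f)]
    (u : (AdjoinRoot f)ˣ) (hu : (u : AdjoinRoot f) = AdjoinRoot.root f) :
    ((u ^ (∑ i ∈ Finset.range f.natDegree, Fintype.card F ^ i) : (AdjoinRoot f)ˣ) : AdjoinRoot f) =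
      algebraMap F (AdjoinRoot f) ((-1) ^ f.natDegree * f.coeff 0) := by
  have hfd : FiniteDimensional F (AdjoinRoot f) := (AdjoinRoot.powerBasis hf.ne_zero).finite
  have hfin : Finite (AdjoinRoot f) := Module.finite_of_finite F
  have hd : finrank F (AdjoinRoot f) = f.natDegree := by
    rw [(AdjoinRoot.powerBasis hf.ne_zero).finrank, AdjoinRoot.powerBasis_dim]
  have hcard : Nat.card (AdjoinRoot f) = Fintype.card F ^ f.natDegree := by
    rw [Module.natCard_eq_pow_finrank (K := F), Nat.card_eq_fintype_card, hd]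
  have hnorm : Algebra.norm F (AdjoinRoot.root f) = (-1) ^ f.natDegree * f.coeff 0 := by
    have h1 := Algebra.PowerBasis.norm_gen_eq_coeff_zero_minpoly (AdjoinRoot.powerBasis hf.ne_zero)
    rw [AdjoinRoot.powerBasis_gen, AdjoinRoot.powerBasis_dim, AdjoinRoot.minpoly_root hf.ne_zero,
      hmon.leadingCoeff] at h1
    simpa using h1
  have h2 := FiniteField.algebraMap_norm_eq_pow (K := F) (x := AdjoinRoot.root f)
  rw [hcard, Nat.card_eq_fintype_card, ← Nat.geomSum_eq Fintype.one_lt_card] at h2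
  rw [← hnorm, h2, Units.val_pow_eq_pow_val, hu]

/-- The product identity for `uz`. -/
theorem uz_split (q d k : ℕ) :
    uz q (d * k) = uz q d * ∑ i ∈ Finset.range k, ((-(q : ℤ)) ^ d) ^ i := by
  have h1 := geom_sum_mul (-(q : ℤ)) (d * k)
  have h2 := geom_sum_mul (-(q : ℤ)) d
  have h3 := geom_sum_mul ((-(q : ℤ)) ^ d) k
  have hne : (-(q : ℤ)) - 1 ≠ 0 := by omega
  apply mul_right_cancel₀ hne
  unfold uz
  rw [h1, pow_mul, ← h3, ← h2]
  ring

theorem uz_even (q m : ℕ) :
    uz q (2 * m) = (1 - (q : ℤ)) * ((∑ i ∈ Finset.range m, (q ^ 2) ^ i : ℕ) : ℤ) := by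
  rw [uz_split]
  have h1 : uz q 2 = 1 - (q : ℤ) := by
    unfold uz
    rw [Finset.sum_range_succ, Finset.sum_range_one]
    ring
  rw [h1]
  congr 1
  push_cast
  refine Finset.sum_congr rfl fun i _ => ?_
  rw [neg_sq]

/-- From `u ^ uz = 1` to the scalar. -/
theorem exists_scalar (hK : Fintype.card F = q ^ 2) {n : ℕ} {f : F[X]}
    [hfact : Fact (Irreducible f)] (u : (AdjoinRoot f)ˣ)
    (hu : (u : AdjoinRoot f) = AdjoinRoot.root f) (h : u ^ uz q n = 1) :
    ∃ c : F, c ^ (q + 1) = 1 ∧ f ∣ X ^ ((uz q n).natAbs / Nat.gcd n (q + 1)) - C c := by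
  have hq := Cfsg.Agent.ClassicalGeometry.GUBasic.two_le hK
  set s := (uz q n).natAbs / Nat.gcd n (q + 1) with hs
  have h1 : u ^ (uz q n).natAbs = 1 := by
    rw [← orderOf_dvd_iff_pow_eq_one, ← Int.natCast_dvd, orderOf_dvd_iff_zpow_eq_one]
    exact h
  have hs2 : (uz q n).natAbs = s * Nat.gcd n (q + 1) :=
    (Nat.div_mul_cancel (gcd_dvd_uz q n)).symm
  have hx2 : (u ^ s) ^ (q + 1) = 1 := by
    obtain ⟨j, hj⟩ := Nat.gcd_dvd_right n (q + 1)
    rw [hj, ← pow_mul, ← mul_assoc, ← hs2, pow_mul, h1, one_pow]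
  have hx3 : ((AdjoinRoot.root f) ^ s) ^ (q + 1) = 1 := by
    rw [← hu, ← Units.val_pow_eq_pow_val, ← Units.val_pow_eq_pow_val, hx2, Units.val_one]
  obtain ⟨c, hc⟩ := mem_range_of_pow_card (F := F) (x := (AdjoinRoot.root f) ^ s) (by
    have hfac : q ^ 2 = (q + 1) * (q - 1) + 1 := by
      obtain ⟨k, rfl⟩ : ∃ k, q = k + 2 := ⟨q - 2, by omega⟩
      rw [show k + 2 - 1 = k + 1 by omega]
      ring
    rw [hK, hfac, pow_succ, pow_mul, hx3, one_pow, one_mul])
  refine ⟨c, ?_, ?_⟩
  · apply (algebraMap F (AdjoinRoot f)).injective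
    rw [map_pow, hc, hx3, map_one]
  · rw [AdjoinRoot.algebraMap_eq, ← AdjoinRoot.mk_C, ← AdjoinRoot.mk_X, ← map_pow,
      AdjoinRoot.mk_eq_mk, ← neg_sub, dvd_neg] at hc
    exact hc

omit [Fintype F] in
theorem dl_dvd_scalar (σ : F →+* F) (hσ : ∀ c, σ c = c ^ q) {f : F[X]} {s : ℕ} {c : F}
    (hc : c ^ (q + 1) = 1) (h : f ∣ X ^ s - C c) : dl σ f ∣ X ^ s - C c := by
  have h1 := dl_dvd σ h
  rw [dl_X_pow_sub_C σ s, hσ] at h1
  have h2 : (X ^ s - C c : F[X]) = C (-c) * (1 - C (c ^ q) * X ^ s) := by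
    rw [mul_sub, ← mul_assoc, ← C_mul, neg_mul, ← pow_succ', hc]
    simp
    ring
  rw [h2]
  exact h1.mul_left _

/-- **The primary case.** -/
theorem uni_primary (hK : Fintype.card F = q ^ 2) (p a : ℕ) [Fact p.Prime] [CharP F p]
    (hqp : q = p ^ a) (σ : F →+* F) (hσ : ∀ c, σ c = c ^ q) {n e : ℕ} (he : n ≤ p ^ e)
    (g : Matrix (Fin n) (Fin n) F) (hdet : g.det = 1) {μ f : F[X]} (hμ : minpoly F g = μ)
    (hf : Irreducible f) (hmon : f.Monic) (h0 : f.coeff 0 ≠ 0) (hdeg : μ.natDegree = n) {k : ℕ}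
    (hcase : (Associated μ (f ^ k) ∧ Associated (dl σ f) f) ∨
      (Associated μ (f ^ k * (dl σ f) ^ k) ∧ IsCoprime f (dl σ f))) :
    ScPow F g ((uz q n).natAbs / Nat.gcd n (q + 1) * p ^ e) := by
  have hfact : Fact (Irreducible f) := ⟨hf⟩
  have hμmon : μ.Monic := by rw [← hμ]; exact minpoly.monic (Algebra.IsIntegral.isIntegral _)
  have hdet' : (-1) ^ n * μ.coeff 0 = 1 := by
    rw [← hμ, ← det_eq_minpoly g (by rw [hμ, hdeg]), hdet]
  have hroot0 : AdjoinRoot.root f ≠ 0 := by
    intro h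
    rw [← AdjoinRoot.mk_X, AdjoinRoot.mk_eq_zero] at h
    obtain ⟨c, hc⟩ := h
    have h7 := congrArg (fun f => coeff f 0) hc
    simp only [coeff_X_zero, mul_coeff_zero] at h7
    have h8 : c.coeff 0 = 0 := (mul_eq_zero.1 h7.symm).resolve_left h0
    have h9 : X ∣ c := X_dvd_iff.2 h8
    obtain ⟨c', hc'⟩ := h9
    rw [hc'] at hc
    have h10 : f * c' = 1 := by
      have : X * (f * c') = X * 1 := by
        rw [mul_one]; nth_rewrite 2 [hc]; ring
      exact mul_left_cancel₀ X_ne_zero this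
    exact hf.not_isUnit (IsUnit.of_mul_eq_one _ h10)
  obtain ⟨u, hu⟩ := hroot0.isUnit
  have hnorm := norm_root hf hmon u hu
  set N : (AdjoinRoot f)ˣ := u ^ (∑ i ∈ Finset.range f.natDegree, Fintype.card F ^ i) with hN
  clear_value N
  have hkn : k ≤ n := by
    rcases hcase with ⟨h1, -⟩ | ⟨h1, -⟩
    · rw [← hdeg, natDegree_eq_of_degree_eq (degree_eq_degree_of_associated h1), natDegree_pow]
      exact Nat.le_mul_of_pos_right _ hf.natDegree_pos
    · rw [← hdeg, natDegree_eq_of_degree_eq (degree_eq_degree_of_associated h1),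
        natDegree_mul (pow_ne_zero _ hf.ne_zero) (pow_ne_zero _ (dl_ne_zero _ hf.ne_zero)),
        natDegree_pow, natDegree_pow]
      exact (Nat.le_mul_of_pos_right _ hf.natDegree_pos).trans (Nat.le_add_right _ _)
  -- the key power relation
  have hkey : u ^ uz q n = 1 := by
    rcases hcase with ⟨h1, hff⟩ | ⟨h1, hcff⟩
    · -- self-dual
      obtain ⟨hper, hodd⟩ := uni_root_selfdual hK p a hqp σ hσ hf hff u hu
      have hμk : μ = f ^ k := eq_of_monic_of_associated hμmon (hmon.pow k) h1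
      have hnd : n = f.natDegree * k := by
        rw [← hdeg, hμk, natDegree_pow, mul_comm]
      have hNu : u ^ uz q f.natDegree = N := by
        obtain ⟨m, hm⟩ := hodd
        have h2 := prod_double (fun i => u ^ ((-(q : ℤ)) ^ i)) m (by
          intro i; rw [← hm]; exact hper i)
        rw [← hm] at h2
        simp only [prod_zpow_sum] at h2
        rw [uz, h2, hN, ← zpow_natCast]
        congr 1
        push_cast
        refine Finset.sum_congr rfl fun i _ => ?_
        rw [hK, pow_mul, neg_sq]; push_cast; ring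
      have hNk : N ^ k = 1 := by
        apply Units.ext
        have hfk0 : (f ^ k).coeff 0 = f.coeff 0 ^ k := by
          rw [coeff_zero_eq_eval_zero, coeff_zero_eq_eval_zero, eval_pow]
        rw [Units.val_pow_eq_pow_val, hnorm, ← map_pow, mul_pow, ← pow_mul, ← hnd, ← hfk0, ← hμk,
          hdet', map_one, Units.val_one]
      have hNd : N ^ ((-(q : ℤ)) ^ f.natDegree) = N := by
        rw [← hNu, ← zpow_mul, mul_comm, zpow_mul]
        have := hper 0
        rw [zero_add, pow_zero, zpow_one] at this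
        rw [this]
      have hNi : ∀ i, N ^ (((-(q : ℤ)) ^ f.natDegree) ^ i) = N := by
        intro i
        induction i with
        | zero => simp
        | succ i ih => rw [pow_succ, zpow_mul, ih, hNd]
      rw [hnd, uz_split, zpow_mul, hNu, ← prod_zpow_sum, Finset.prod_congr rfl fun i _ => hNi i,
        Finset.prod_const, Finset.card_range, hNk]
    · -- not self-dual
      have hnd : n = 2 * (f.natDegree * k) := by
        rw [← hdeg, natDegree_eq_of_degree_eq (degree_eq_degree_of_associated h1),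
          natDegree_mul (pow_ne_zero _ hf.ne_zero) (pow_ne_zero _ (dl_ne_zero _ hf.ne_zero)),
          natDegree_pow, natDegree_pow, natDegree_dl _ h0]
        ring
      have hsgn : ((-1 : F)) ^ n = 1 := by rw [hnd, pow_mul, neg_one_sq, one_pow]
      -- `f(0)^k = σ (f(0)^k)`
      have hfk : σ (f.coeff 0) ^ k = f.coeff 0 ^ k := by
        obtain ⟨w, hw⟩ := h1.symm
        obtain ⟨v, hv⟩ := Polynomial.isUnit_iff.1 w.isUnit
        have hlc : (dl σ f).leadingCoeff = σ (f.coeff 0) := by
          unfold dl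
          rw [reverse_leadingCoeff, trailingCoeff, coeff_map]
          congr 1
          have : (f.map σ).natTrailingDegree = 0 := by
            rw [natTrailingDegree_eq_zero]
            right
            rw [coeff_map]
            simpa using h0
          rw [this]
        have h2 : σ (f.coeff 0) ^ k * v = 1 := by
          have h3 := congrArg leadingCoeff hw
          rw [leadingCoeff_mul, leadingCoeff_mul, leadingCoeff_pow, leadingCoeff_pow,
            hmon.leadingCoeff, hμmon.leadingCoeff, hlc, ← hv.2, leadingCoeff_C, one_pow,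
            one_mul] at h3
          exact h3
        have h3 : f.coeff 0 ^ k * v = 1 := by
          have h4 := congrArg (fun f => coeff f 0) hw
          simp only [mul_coeff_zero] at h4
          rw [hsgn, one_mul] at hdet'
          rw [hdet', ← hv.2, coeff_C_zero] at h4
          have h5 : (f ^ k).coeff 0 = f.coeff 0 ^ k := by
            rw [coeff_zero_eq_eval_zero, coeff_zero_eq_eval_zero, eval_pow]
          have h6 : ((dl σ f) ^ k).coeff 0 = 1 := by
            rw [coeff_zero_eq_eval_zero, eval_pow, ← coeff_zero_eq_eval_zero, coeff_zero_dl,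
              hmon.leadingCoeff, map_one, one_pow]
          rw [h5, h6, mul_one] at h4
          exact h4
        have hv0 : v ≠ 0 := hv.1.ne_zero
        exact mul_right_cancel₀ hv0 (h2.trans h3.symm)
      have hNk : N ^ ((k : ℤ) * (1 - (q : ℤ))) = 1 := by
        have h2 : N ^ (k * q) = N ^ k := by
          apply Units.ext
          rw [Units.val_pow_eq_pow_val, Units.val_pow_eq_pow_val, hnorm, ← map_pow, ← map_pow]
          congr 1
          have h3 : ((-1 : F)) ^ q = -1 := by rw [← hσ, map_neg, map_one]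
          rw [mul_pow, mul_pow, pow_mul (f.coeff 0), ← hσ (f.coeff 0 ^ k), map_pow, hfk]
          congr 1
          rw [← pow_mul, ← pow_mul, mul_comm k q, ← mul_assoc, mul_comm f.natDegree q, mul_assoc,
            pow_mul, h3]
        rw [mul_sub, mul_one, zpow_sub, zpow_natCast, ← Nat.cast_mul, zpow_natCast, h2,
          mul_inv_cancel]
      have hNq : N ^ (Fintype.card F ^ f.natDegree) = N := by
        apply Units.ext
        rw [Units.val_pow_eq_pow_val, hnorm, ← map_pow, FiniteField.pow_card_pow]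
      have hNi : ∀ i, N ^ ((Fintype.card F ^ f.natDegree) ^ i) = N := by
        intro i
        induction i with
        | zero => simp
        | succ i ih => rw [pow_succ, pow_mul, ih, hNq]
      have hsplit : ∑ i ∈ Finset.range (f.natDegree * k), (q ^ 2) ^ i =
          (∑ i ∈ Finset.range f.natDegree, Fintype.card F ^ i) *
          ∑ i ∈ Finset.range k, (Fintype.card F ^ f.natDegree) ^ i := by
        rw [← hK, Nat.geomSum_eq Fintype.one_lt_card, Nat.geomSum_eq Fintype.one_lt_card]
        exact geom_mul Fintype.one_lt_card hf.natDegree_pos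
      rw [hnd, uz_even, hsplit, mul_comm, Nat.cast_mul, mul_assoc, zpow_mul, zpow_natCast, ← hN,
        zpow_mul, zpow_natCast, ← Finset.prod_pow_eq_pow_sum, Finset.prod_congr rfl fun i _ => hNi i,
        Finset.prod_const, Finset.card_range, ← zpow_natCast, ← zpow_mul, hNk]
  obtain ⟨c, hc1, hc2⟩ := exists_scalar hK u hu hkey
  have hc3 := dl_dvd_scalar σ hσ hc1 hc2
  rw [scPow_iff_dvd]
  refine ⟨c ^ p ^ e, ?_⟩
  rw [hμ, pow_mul, C_pow, ← sub_pow_char_pow]
  rcases hcase with ⟨h1, -⟩ | ⟨h1, hcff⟩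
  · exact h1.dvd.trans ((pow_dvd_pow f (hkn.trans he)).trans (pow_dvd_pow_of_dvd hc2 _))
  · refine h1.dvd.trans ((hcff.pow).mul_dvd ?_ ?_)
    · exact ((pow_dvd_pow f (hkn.trans he)).trans (pow_dvd_pow_of_dvd hc2 _))
    · exact ((pow_dvd_pow _ (hkn.trans he)).trans (pow_dvd_pow_of_dvd hc3 _))

end Cfsg.Agent.H159
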