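import Cfsg.Agent.H159.Ses
import Cfsg.Agent.H186.Unitary
import Cfsg.Agent.H954.FieldSub
import Cfsg.Agent.LieClassical.SUBasic

/-!
Matrices of `GU_n(q)` with prescribed (self-dual) minimal polynomial of degree `n`, and orders of
elements of `PSU_n(q)` modulo scalars.
-/

set_option autoImplicit false

namespace Cfsg.Agent.H159

open Polynomial Module Matrix
open Cfsg.Agent.H186 (st st_mul st_one st_add st_smul st_st st_algebraMap mem_GU_iff_st
  exists_isConj_iff)

theorem semiconj_aeval {F R : Type*} [Field F] [Ring R] [Algebra F R] {c x y : R}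
    (h : c * x = y * c) (P : F[X]) : c * aeval x P = aeval y P * c := by
  have hpow : ∀ k : ℕ, c * x ^ k = y ^ k * c := by
    intro k
    induction k with
    | zero => simp
    | succ k ih => rw [pow_succ', ← mul_assoc, h, mul_assoc, ih, ← mul_assoc, ← pow_succ']
  induction P using Polynomial.induction_on' with
  | add p q hp hq => rw [map_add, mul_add, hp, hq, map_add, add_mul]
  | monomial k r =>
    rw [aeval_monomial, aeval_monomial, ← mul_assoc, ← Algebra.commutes r c, mul_assoc, hpow,
      mul_assoc]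

theorem minpoly_eq_of_semiconj {F R : Type*} [Field F] [Ring R] [Algebra F R] [FiniteDimensional F R]
    {c x y : R} (hc : IsUnit c) (h : c * x = y * c) : minpoly F x = minpoly F y := by
  obtain ⟨c, rfl⟩ := hc
  refine eq_of_monic_of_associated (minpoly.monic (Algebra.IsIntegral.isIntegral x))
    (minpoly.monic (Algebra.IsIntegral.isIntegral y)) (associated_of_dvd_dvd ?_ ?_)
  · apply minpoly.dvd
    have h1 := semiconj_aeval (F := F) h (minpoly F y)
    rw [minpoly.aeval, zero_mul] at h1
    exact (Units.mul_right_eq_zero c).1 h1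
  · apply minpoly.dvd
    have h1 := semiconj_aeval (F := F) h (minpoly F x)
    rw [minpoly.aeval, mul_zero] at h1
    exact (Units.mul_left_eq_zero c).1 h1.symm

variable {F : Type*} [Field F] [Fintype F] {q n : ℕ}

theorem st_zero (hK : Fintype.card F = q ^ 2) : st q (0 : Matrix (Fin n) (Fin n) F) = 0 := by
  have := st_algebraMap (ι := Fin n) hK (0 : F)
  have hq : q ≠ 0 := by
    rintro rfl
    have := Fintype.card_pos (α := F)
    rw [hK] at this
    simp at this
  rwa [map_zero, zero_pow hq, map_zero] at this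

theorem st_aeval (hK : Fintype.card F = q ^ 2) (σ : F →+* F) (hσ : ∀ c, σ c = c ^ q)
    (M : Matrix (Fin n) (Fin n) F) (P : F[X]) :
    st q (aeval M P) = aeval (st q M) (P.map σ) := by
  have hpow : ∀ k : ℕ, st q (M ^ k) = (st q M) ^ k := by
    intro k
    induction k with
    | zero => rw [pow_zero, pow_zero, st_one hK]
    | succ k ih => rw [pow_succ, st_mul hK, ih, pow_succ']
  induction P using Polynomial.induction_on' with
  | add p r hp hr => rw [map_add, st_add hK, hp, hr, Polynomial.map_add, map_add]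
  | monomial k r =>
    rw [aeval_monomial, map_monomial, aeval_monomial, st_mul hK, st_algebraMap hK, hpow, hσ]
    exact (Algebra.commutes _ _).symm

/-- **Existence** of a unitary matrix with given self-dual minimal polynomial of degree `n`. -/
theorem exists_gu_minpoly (hK : Fintype.card F = q ^ 2) (σ : F →+* F) (hσ : ∀ c, σ c = c ^ q)
    {a : F[X]} (hmon : a.Monic) (h0 : a.coeff 0 ≠ 0) (hself : Associated (dl σ a) a)
    (hd : a.natDegree = n) :
    ∃ B : Matrix (Fin n) (Fin n) F, st q B * B = 1 ∧ minpoly F B = a := by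
  have hσσ : ∀ c, σ (σ c) = c := fun c => by
    rw [hσ, hσ, ← pow_mul, ← sq, ← hK, FiniteField.pow_card]
  -- companion matrix
  have hfd : FiniteDimensional F (AdjoinRoot a) := (AdjoinRoot.powerBasis hmon.ne_zero).finite
  have hfr : finrank F (AdjoinRoot a) = n := by
    rw [(AdjoinRoot.powerBasis hmon.ne_zero).finrank, AdjoinRoot.powerBasis_dim, hd]
  let b := finBasisOfFinrankEq F (AdjoinRoot a) hfr
  have hmroot : minpoly F (AdjoinRoot.root a) = a := by
    rw [AdjoinRoot.minpoly_root hmon.ne_zero, hmon.leadingCoeff]; simp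
  obtain ⟨A₀, hA₀⟩ : ∃ A₀ : Matrix (Fin n) (Fin n) F, minpoly F A₀ = a := by
    refine ⟨Algebra.leftMulMatrix b (AdjoinRoot.root a), ?_⟩
    rw [minpoly.algHom_eq _ (Algebra.leftMulMatrix_injective b), hmroot]
  have hunit : IsUnit A₀ := by
    -- `a = X c + a(0)`
    have h1 : aeval A₀ a = 0 := by rw [← hA₀, minpoly.aeval]
    rw [← Polynomial.divX_mul_X_add a, map_add, map_mul, aeval_X, aeval_C] at h1
    have h2 : A₀ * (-(algebraMap F _ (a.coeff 0)⁻¹) * aeval A₀ a.divX) = 1 := by
      have h3 : aeval A₀ a.divX * A₀ = - algebraMap F _ (a.coeff 0) := eq_neg_of_add_eq_zero_left h1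
      have h4 : A₀ * aeval A₀ a.divX = aeval A₀ a.divX * A₀ := by
        have := congrArg (aeval A₀) (mul_comm X a.divX)
        rwa [map_mul, map_mul, aeval_X] at this
      rw [← mul_assoc, mul_neg, ← Algebra.commutes, neg_mul, mul_assoc, h4, h3, mul_neg, neg_neg,
        ← map_mul, inv_mul_cancel₀ h0, map_one]
    exact (Matrix.isUnit_iff_isUnit_det _).2 (by
      have := congrArg Matrix.det h2
      rw [Matrix.det_mul, Matrix.det_one] at this
      exact IsUnit.of_mul_eq_one _ this)
  obtain ⟨A, hA⟩ := hunit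
  -- the inverse adjoint
  set A' : Matrix (Fin n) (Fin n) F := st q ((A⁻¹ : GL (Fin n) F) : Matrix (Fin n) (Fin n) F) with hA'
  have hAst : (st q (A : Matrix (Fin n) (Fin n) F)) * A' = 1 := by
    rw [hA', ← st_mul hK, Units.inv_mul, st_one hK]
  have hAst' : A' * (st q (A : Matrix (Fin n) (Fin n) F)) = 1 := by
    rw [hA', ← st_mul hK, Units.mul_inv, st_one hK]
  have hinv : (st q (A : Matrix (Fin n) (Fin n) F))⁻¹ = A' := Matrix.inv_eq_right_inv hAst
  have hdual1 : ∀ c : F[X], aeval (A : Matrix (Fin n) (Fin n) F) c = 0 → aeval A' (dl σ c) = 0 := by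
    intro c hc
    rw [aeval_dl σ hAst', ← st_aeval hK σ hσ, hc, st_zero hK, mul_zero]
  have hdual2 : ∀ c : F[X], aeval A' c = 0 → aeval (A : Matrix (Fin n) (Fin n) F) (dl σ c) = 0 := by
    intro c hc
    have h1 : st q A' = ((A⁻¹ : GL (Fin n) F) : Matrix (Fin n) (Fin n) F) := by rw [hA', st_st hK]
    rw [aeval_dl σ (Units.mul_inv A), ← h1, ← st_aeval hK σ hσ, hc, st_zero hK, mul_zero]
  have hmin' : minpoly F A' = a := by
    have h1 : aeval (A : Matrix (Fin n) (Fin n) F) a = 0 := by
      have h2 := minpoly.aeval F A₀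
      rw [hA₀] at h2
      rw [hA]; exact h2
    have h2 : minpoly F A' ∣ a := (minpoly.dvd F A' (hdual1 a h1)).trans hself.dvd
    have h3 : a ∣ dl σ (minpoly F A') := by
      have := minpoly.dvd F _ (hdual2 _ (minpoly.aeval F A'))
      rwa [hA, hA₀] at this
    have h4 : a.natDegree ≤ (minpoly F A').natDegree := by
      refine (natDegree_le_of_dvd h3 (dl_ne_zero σ
        (minpoly.ne_zero (Algebra.IsIntegral.isIntegral _)))).trans ?_
      unfold dl
      exact (reverse_natDegree_le _).trans (natDegree_map_le)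
    exact (eq_of_monic_of_dvd_of_natDegree_le (minpoly.monic (Algebra.IsIntegral.isIntegral _)) hmon
      h2 h4).symm
  -- conjugacy
  have hlin : ∀ M : Matrix (Fin n) (Fin n) F, minpoly F M = a →
      minpoly F (Matrix.toLinAlgEquiv' M) = a := by
    intro M hM
    rw [← hM]
    exact minpoly.algHom_eq (Matrix.toLinAlgEquiv' (R := F) (n := Fin n)).toAlgHom
      (Matrix.toLinAlgEquiv' (R := F) (n := Fin n)).injective M
  have hx := hlin (A : Matrix (Fin n) (Fin n) F) (by rw [hA, hA₀])
  have hy := hlin A' hmin'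
  obtain ⟨e, he⟩ := Cfsg.Agent.H954.FieldSub.exists_equiv_minpoly
    (Matrix.toLinAlgEquiv' (A : Matrix (Fin n) (Fin n) F)) (Matrix.toLinAlgEquiv' A') (by rw [hx, hy])
    (by rw [hx, hd]; simp) (by rw [hy, hd]; simp)
  have hconj : IsConj (A : Matrix (Fin n) (Fin n) F)
      (((A : Matrix (Fin n) (Fin n) F).map (fun x : F => x ^ q)).transpose)⁻¹ := by
    change IsConj (A : Matrix (Fin n) (Fin n) F) (st q (A : Matrix (Fin n) (Fin n) F))⁻¹
    rw [hinv]
    have hc1 : LinearMap.toMatrix' (e : (Fin n → F) →ₗ[F] (Fin n → F)) *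
        LinearMap.toMatrix' (e.symm : (Fin n → F) →ₗ[F] (Fin n → F)) = 1 := by
      rw [← LinearMap.toMatrix'_comp]; simp
    have hc2 : LinearMap.toMatrix' (e.symm : (Fin n → F) →ₗ[F] (Fin n → F)) *
        LinearMap.toMatrix' (e : (Fin n → F) →ₗ[F] (Fin n → F)) = 1 := by
      rw [← LinearMap.toMatrix'_comp]; simp
    refine ⟨⟨_, _, hc1, hc2⟩, ?_⟩
    show LinearMap.toMatrix' (e : (Fin n → F) →ₗ[F] (Fin n → F)) * (A : Matrix (Fin n) (Fin n) F) =
      A' * LinearMap.toMatrix' (e : (Fin n → F) →ₗ[F] (Fin n → F))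
    apply Matrix.toLin'.injective
    rw [Matrix.toLin'_mul, Matrix.toLin'_mul, Matrix.toLin'_toMatrix']
    exact LinearMap.ext fun v => he v
  obtain ⟨⟨B, hB⟩, hAB⟩ := (exists_isConj_iff hK A).2 hconj
  rw [mem_GU_iff_st hK] at hB
  refine ⟨(B : Matrix (Fin n) (Fin n) F), hB, ?_⟩
  obtain ⟨c, hc⟩ := hAB
  have hc' : (((c : GL (Fin n) F)) : Matrix (Fin n) (Fin n) F) * (A : Matrix (Fin n) (Fin n) F) =
      (B : Matrix (Fin n) (Fin n) F) * (((c : GL (Fin n) F)) : Matrix (Fin n) (Fin n) F) := by
    have := congrArg (fun M : GL (Fin n) F => (M : Matrix (Fin n) (Fin n) F)) hc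
    simpa using this
  rw [← minpoly_eq_of_semiconj (F := F) (c : GL (Fin n) F).isUnit hc', hA, hA₀]

end Cfsg.Agent.H159
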