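import Cfsg.Agent.H159.UniMat

/-!
Orders of elements of `PSU_n(q)` in terms of unitary matrices: transfer, multiplication by an
element of prime order `r ∣ q + 1`, block sums, self-adjoint idempotents.
-/

set_option autoImplicit false

namespace Cfsg.Agent.H159

open Polynomial Module Matrix
open Cfsg.Agent.H186 (st st_mul st_one st_add st_smul st_st st_algebraMap mem_GU_iff_st st_apply)
open Cfsg.Agent.LieClassical.SUBasic (mem_SU_iff mem_center_SU_iff suScalar coe_suScalar)

variable {F : Type*} [Field F] [Fintype F] {q n : ℕ}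

theorem hermForm_iff_st (hK : Fintype.card F = q ^ 2) (M : Matrix (Fin n) (Fin n) F)
    (hM : IsUnit M) :
    (∀ u v : Fin n → F, Cfsg.hermForm n F q (M *ᵥ u) (M *ᵥ v) = Cfsg.hermForm n F q u v) ↔
      st q M * M = 1 := by
  obtain ⟨M, rfl⟩ := hM
  rw [← mem_GU_iff_st hK M]
  exact (Cfsg.Agent.ClassicalGeometry.GUBasic.mem_GU_iff M).symm

theorem psu_pow_eq_one_iff (hK : Fintype.card F = q ^ 2) (hn : 3 ≤ n) (g : Cfsg.SU n F q) (m : ℕ) :
    ((QuotientGroup.mk g : Cfsg.PSU n F q) ^ m = 1) ↔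
      ScPow F ((g : Matrix.SpecialLinearGroup (Fin n) F) : Matrix (Fin n) (Fin n) F) m := by
  have hcoe : (((g ^ m : Cfsg.SU n F q) : Matrix.SpecialLinearGroup (Fin n) F) :
      Matrix (Fin n) (Fin n) F) =
      ((g : Matrix.SpecialLinearGroup (Fin n) F) : Matrix (Fin n) (Fin n) F) ^ m := by
    rw [Subgroup.coe_pow, Matrix.SpecialLinearGroup.coe_pow]
  rw [← QuotientGroup.mk_pow, QuotientGroup.eq_one_iff, mem_center_SU_iff hK hn]
  constructor
  · rintro ⟨c, hcn, hcq, hc⟩
    refine ⟨c, ?_⟩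
    rw [← hcoe, hc, coe_suScalar]
    rfl
  · rintro ⟨c, hc⟩
    have hdiag : (((g ^ m : Cfsg.SU n F q) : Matrix.SpecialLinearGroup (Fin n) F) :
      Matrix (Fin n) (Fin n) F) = Matrix.diagonal (fun _ => c) := by
      rw [hcoe, hc]; rfl
    have hcn : c ^ n = 1 := by
      have h3 := (g ^ m : Cfsg.SU n F q).1.2
      rw [hdiag] at h3
      simpa using h3
    have hcq : c ^ (q + 1) = 1 := by
      have h1 := (mem_SU_iff _).1 (g ^ m : Cfsg.SU n F q).2
      rw [hdiag] at h1
      have h2 := (hermForm_iff_st hK (Matrix.diagonal (fun _ : Fin n => c)) (by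
        rw [Matrix.isUnit_iff_isUnit_det, ← hdiag, (g ^ m : Cfsg.SU n F q).1.2]
        exact isUnit_one)).1 h1
      have h3 := congrFun (congrFun h2 ⟨0, by omega⟩) ⟨0, by omega⟩
      rw [Matrix.mul_diagonal, st_apply, Matrix.diagonal_apply_eq, Matrix.one_apply_eq] at h3
      rw [pow_succ, h3]
    exact ⟨c, hcn, hcq, Subtype.ext (Subtype.ext (by rw [hdiag, coe_suScalar]))⟩

theorem exists_mat_of_psu (hK : Fintype.card F = q ^ 2) (hn : 3 ≤ n) (x : Cfsg.PSU n F q) :
    ∃ g : Matrix (Fin n) (Fin n) F, st q g * g = 1 ∧ g.det = 1 ∧ ∀ m, x ^ m = 1 ↔ ScPow F g m := by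
  obtain ⟨g, rfl⟩ := QuotientGroup.mk_surjective x
  refine ⟨((g : Matrix.SpecialLinearGroup (Fin n) F) : Matrix (Fin n) (Fin n) F), ?_, g.1.2,
    fun m => psu_pow_eq_one_iff hK hn g m⟩
  apply (hermForm_iff_st hK _ _).1 ((mem_SU_iff _).1 g.2)
  rw [Matrix.isUnit_iff_isUnit_det, g.1.2]
  exact isUnit_one

omit [Fintype F] in
theorem st_reindex {ι κ : Type*} (e : ι ≃ κ) (M : Matrix ι ι F) :
    st q (Matrix.reindex e e M) = Matrix.reindex e e (st q M) := rfl

theorem exists_psu_of_mat {ι : Type*} [Fintype ι] [DecidableEq ι] (hK : Fintype.card F = q ^ 2)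
    (hn : 3 ≤ n) (hι : Fintype.card ι = n) (g : Matrix ι ι F) (hg : st q g * g = 1)
    (hdet : g.det = 1) : ∃ x : Cfsg.PSU n F q, ∀ m, x ^ m = 1 ↔ ScPow F g m := by
  let e : ι ≃ Fin n := Fintype.equivFinOfCardEq hι
  set h := Matrix.reindex e e g with hh
  have hdet' : h.det = 1 := by rw [hh, Matrix.det_reindex_self, hdet]
  have hst : st q h * h = 1 := by
    rw [hh, st_reindex, Matrix.reindex_apply, Matrix.reindex_apply, Matrix.submatrix_mul_equiv, hg,
      Matrix.submatrix_one_equiv]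
  obtain ⟨M, hM⟩ : ∃ M : Matrix.SpecialLinearGroup (Fin n) F,
      (M : Matrix (Fin n) (Fin n) F) = h := ⟨⟨h, hdet'⟩, rfl⟩
  have hMm : M ∈ Cfsg.SU n F q := by
    rw [mem_SU_iff, hM]
    apply (hermForm_iff_st hK _ _).2 hst
    rw [Matrix.isUnit_iff_isUnit_det, hdet']
    exact isUnit_one
  refine ⟨QuotientGroup.mk (⟨M, hMm⟩ : Cfsg.SU n F q), fun m => ?_⟩
  rw [psu_pow_eq_one_iff hK hn]
  change ScPow F (M : Matrix (Fin n) (Fin n) F) m ↔ _
  rw [hM, hh]
  exact scPow_of_injective (Matrix.reindexAlgEquiv F F e).toAlgHom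
    (Matrix.reindexAlgEquiv F F e).injective

/-- A primitive `r`-th root of unity of norm one when `r ∣ q + 1`. -/
theorem exists_root_of_unity' (hK : Fintype.card F = q ^ 2) {r : ℕ} (hrq : r ∣ q + 1) :
    ∃ ζ : F, IsPrimitiveRoot ζ r ∧ ζ ^ q * ζ = 1 := by
  have hq := Cfsg.Agent.ClassicalGeometry.GUBasic.two_le hK
  obtain ⟨ζ, hζ⟩ := exists_root_of_unity (F := F) (r := r) (by
    rw [hK]
    have hfac : q ^ 2 - 1 = (q + 1) * (q - 1) := by
      have := Nat.sq_sub_sq q 1
      simpa using this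
    rw [hfac]
    exact hrq.mul_right _)
  refine ⟨ζ, hζ, ?_⟩
  rw [← pow_succ]
  obtain ⟨k, hk⟩ := hrq
  rw [hk, pow_mul, hζ.pow_eq_one, one_pow]

/-- **Adjoining `r`.** -/
theorem exists_psu_mul_r {ι : Type*} [Fintype ι] [DecidableEq ι] {r : ℕ}
    (hK : Fintype.card F = q ^ 2) (hn : 3 ≤ n) (hι : Fintype.card ι = n) (hr : r.Prime)
    (hrq : r ∣ q + 1) (hrn : ¬ r ∣ n) (h e : Matrix ι ι F) (hst : st q h * h = 1)
    (hdet : h.det = 1) (hee : e * e = e) (hes : st q e = e) (he0 : e ≠ 0) (he1 : e ≠ 1)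
    (heh : e * h = h * e) :
    ∃ y : Cfsg.PSU n F q, (∀ m, y ^ m = 1 → ScPow F h m) ∧ r ∣ orderOf y := by
  have hVnt : Nontrivial (Matrix ι ι F) := ⟨⟨e, 0, he0⟩⟩
  obtain ⟨ζ, hζ, hζn⟩ := exists_root_of_unity' (F := F) hK hrq
  obtain ⟨x, hx⟩ := exists_psu_of_mat hK hn hι h hst hdet
  by_cases hrx : r ∣ orderOf x
  · exact ⟨x, fun m hm => (hx m).1 hm, hrx⟩
  have h3 : (1 - e) * (1 - e) = 1 - e := by
    rw [sub_mul, mul_sub, mul_sub, hee]; simp
  have h4 : (1 - e) * e = 0 := by rw [sub_mul, one_mul, hee, sub_self]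
  have h5 : e * (1 - e) = 0 := by rw [mul_sub, mul_one, hee, sub_self]
  -- the element `e + ζ (1 - e)`
  have key : ∀ k : ℕ, (e + ζ • (1 - e)) ^ k = e + ζ ^ k • (1 - e) := by
    intro k
    induction k with
    | zero => simp
    | succ k ih =>
      rw [pow_succ, ih, mul_add, add_mul, add_mul]
      have h1 : e * (ζ • (1 - e)) = 0 := by
        rw [mul_smul_comm, h5, smul_zero]
      have h2 : (ζ ^ k • (1 - e)) * e = 0 := by
        rw [smul_mul_assoc, h4, smul_zero]
      rw [h1, h2, hee, smul_mul_smul_comm, h3, pow_succ]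
      simp
  have hr1 : (e + ζ • (1 - e)) ^ r = 1 := by
    rw [key, hζ.pow_eq_one]; simp
  have hrne : NeZero r := ⟨hr.ne_zero⟩
  obtain ⟨j, -, hj⟩ := hζ.eq_pow_of_pow_eq_one (ξ := Matrix.det (e + ζ • (1 - e))) (by
    rw [← Matrix.det_pow, hr1, Matrix.det_one])
  -- adjust by a scalar
  have hcop : Nat.Coprime n r := ((Nat.Prime.coprime_iff_not_dvd hr).2 hrn).symm
  obtain ⟨i, hi⟩ : ∃ i : ℕ, r ∣ i * n + j := by
    have h1 : IsUnit (n : ZMod r) := (ZMod.isUnit_iff_coprime n r).2 hcop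
    obtain ⟨u, hu⟩ := h1
    refine ⟨(-(j : ZMod r) * ((u⁻¹ : (ZMod r)ˣ) : ZMod r)).val, ?_⟩
    rw [← ZMod.natCast_eq_zero_iff, Nat.cast_add, Nat.cast_mul, ZMod.natCast_val, ZMod.cast_id,
      ← hu, mul_assoc, Units.inv_mul, mul_one, neg_add_cancel]
  set t : Matrix ι ι F := ζ ^ i • (e + ζ • (1 - e)) with ht
  have htr : t ^ r = 1 := by
    rw [ht, _root_.smul_pow, hr1, ← pow_mul, mul_comm i r, pow_mul, hζ.pow_eq_one]; simp
  have htdet : t.det = 1 := by
    rw [ht, Matrix.det_smul, ← hj, hι, ← pow_mul, ← pow_add]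
    obtain ⟨k, hk⟩ := hi
    rw [hk, pow_mul, hζ.pow_eq_one, one_pow]
  have hst1 : st q (1 - e) = 1 - e := by
    have h1 := st_add hK (1 - e) e
    rw [sub_add_cancel, st_one hK, hes] at h1
    exact eq_sub_of_add_eq h1.symm
  have htst : st q t * t = 1 := by
    rw [ht, st_smul, st_add hK, hes, st_smul, hst1, smul_mul_smul_comm, ← pow_mul, mul_comm i q,
      pow_mul, ← mul_pow, hζn, one_pow, one_smul, mul_add, add_mul, add_mul, mul_smul_comm, h5,
      smul_mul_assoc, h4, hee, smul_mul_smul_comm, h3, hζn]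
    simp
  have htsc : ∀ k, ScPow F t k → r ∣ k := by
    rintro k ⟨c, hc⟩
    rw [ht, _root_.smul_pow, key, Algebra.algebraMap_eq_smul_one] at hc
    have h1 := congrArg (fun f => e * f) hc
    have h2 := congrArg (fun f => (1 - e) * f) hc
    simp only [mul_smul_comm, mul_add, hee, h5, smul_zero, add_zero, mul_one] at h1
    simp only [mul_smul_comm, mul_add, h3, h4, zero_add, mul_one] at h2
    have h6 : (ζ ^ i) ^ k = c := by
      have h7 : ((ζ ^ i) ^ k - c) • e = 0 := by rw [sub_smul, h1, sub_self]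
      rcases smul_eq_zero.1 h7 with h8 | h8
      · exact sub_eq_zero.1 h8
      · exact absurd h8 he0
    have hne : (1 - e) ≠ 0 := fun h => he1 (sub_eq_zero.1 h).symm
    have h9 : (ζ ^ i) ^ k * ζ ^ k = c := by
      have h7 : ((ζ ^ i) ^ k * ζ ^ k - c) • (1 - e) = 0 := by
        rw [sub_smul, mul_smul, h2, sub_self]
      rcases smul_eq_zero.1 h7 with h8 | h8
      · exact sub_eq_zero.1 h8
      · exact absurd h8 hne
    have hζ0 : ζ ≠ 0 := hζ.ne_zero hr.ne_zero
    rw [← h6] at h9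
    have h10 : ζ ^ k = 1 := mul_left_cancel₀ (pow_ne_zero k (pow_ne_zero i hζ0)) (by rw [h9, mul_one])
    exact (hζ.pow_eq_one_iff_dvd k).1 h10
  have hcomm : Commute h t := by
    rw [ht]
    have hce : Commute h e := heh.symm
    exact ((hce.add_right (((Commute.one_right h).sub_right hce).smul_right ζ)).smul_right (ζ ^ i))
  obtain ⟨y, hy⟩ := exists_psu_of_mat hK hn hι (h * t) (by
    rw [st_mul hK, mul_assoc, ← mul_assoc (st q h), hst, one_mul, htst])
    (by rw [Matrix.det_mul, hdet, htdet, mul_one])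
  have hmain : ∀ m, y ^ m = 1 → ScPow F h m := by
    intro m hm
    obtain ⟨c, hc⟩ := (hy m).1 hm
    rw [hcomm.mul_pow] at hc
    have h1 : h ^ (m * r) = algebraMap F _ (c ^ r) := by
      have h2 : (h ^ m * t ^ m) ^ r = h ^ (m * r) := by
        rw [(hcomm.pow_pow m m).mul_pow, ← pow_mul, ← pow_mul, mul_comm m r, pow_mul t, htr]
        simp
      rw [← h2, hc, map_pow]
    have h3 : orderOf x ∣ m * r := orderOf_dvd_of_pow_eq_one ((hx _).2 ⟨_, h1⟩)
    have h4 : orderOf x ∣ m :=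
      (((Nat.Prime.coprime_iff_not_dvd hr).2 hrx).symm).dvd_of_dvd_mul_right h3
    exact (hx m).1 (orderOf_dvd_iff_pow_eq_one.1 h4)
  refine ⟨y, hmain, ?_⟩
  have h1 := hmain _ (pow_orderOf_eq_one y)
  obtain ⟨c, hc⟩ := (hy _).1 (pow_orderOf_eq_one y)
  obtain ⟨d, hd⟩ := h1
  apply htsc
  rw [hcomm.mul_pow, hd] at hc
  have hd0 : d ≠ 0 := by
    rintro rfl
    rw [map_zero] at hd
    have hu : IsUnit h := by
      rw [Matrix.isUnit_iff_isUnit_det, hdet]; exact isUnit_one
    exact (hu.pow (orderOf y)).ne_zero hd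
  refine ⟨d⁻¹ * c, ?_⟩
  rw [map_mul, ← hc, ← mul_assoc, ← map_mul, inv_mul_cancel₀ hd0, map_one, one_mul]

/-- **Block sums.** -/
theorem exists_block (hK : Fintype.card F = q ^ 2) {d k : ℕ} (hd : d ≠ 0) (hk : k ≠ 0)
    (B : Matrix (Fin d) (Fin d) F) (hB : st q B * B = 1) :
    ∃ h e : Matrix (Fin d ⊕ Fin k) (Fin d ⊕ Fin k) F, st q h * h = 1 ∧ h.det = 1 ∧ e * e = e ∧
      st q e = e ∧ e ≠ 0 ∧ e ≠ 1 ∧ e * h = h * e ∧ ∀ m, ScPow F h m → ScPow F B m := by
  have hq := Cfsg.Agent.ClassicalGeometry.GUBasic.two_le hK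
  obtain ⟨σ, hσ⟩ := Cfsg.Agent.ClassicalGeometry.GUBasic.exists_powHom hK
  have hstb : ∀ (a : Matrix (Fin d) (Fin d) F) (b : Matrix (Fin k) (Fin k) F),
      st q (Matrix.fromBlocks a 0 0 b) = Matrix.fromBlocks (st q a) 0 0 (st q b) := by
    intro a b
    ext i j
    rcases i with i | i <;> rcases j with j | j
    · rfl
    · simp [st_apply]; omega
    · simp [st_apply]; omega
    · rfl
  have hdetB : B.det ^ q * B.det = 1 := by
    have h1 := congrArg Matrix.det hB
    have h2 : st q B = (σ.mapMatrix B)ᵀ := by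
      ext i j
      rw [st_apply, Matrix.transpose_apply, RingHom.mapMatrix_apply, Matrix.map_apply, hσ]
    rw [Matrix.det_mul, h2, Matrix.det_transpose, ← RingHom.map_det, hσ, Matrix.det_one] at h1
    exact h1
  have hdet0 : B.det ≠ 0 := right_ne_zero_of_mul_eq_one hdetB
  let i0 : Fin k := ⟨0, by omega⟩
  set D : Matrix (Fin k) (Fin k) F := Matrix.diagonal (Function.update 1 i0 (B.det)⁻¹) with hD
  have hDdet : D.det = (B.det)⁻¹ := by
    rw [hD, Matrix.det_diagonal, Finset.prod_update_of_mem (Finset.mem_univ _)]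
    simp
  have hDst : st q D * D = 1 := by
    have h1 : st q D = Matrix.diagonal (fun i => (Function.update (1 : Fin k → F) i0 (B.det)⁻¹ i) ^ q) := by
      ext i j
      rw [st_apply, hD]
      by_cases hij : i = j
      · subst hij; simp
      · rw [Matrix.diagonal_apply_ne _ hij, Matrix.diagonal_apply_ne _ (Ne.symm hij),
          zero_pow (by omega)]
    rw [h1, hD, Matrix.diagonal_mul_diagonal, ← Matrix.diagonal_one]
    congr 1
    funext i
    by_cases hi : i = i0
    · subst hi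
      rw [Function.update_self, inv_pow, ← mul_inv, hdetB, inv_one]
    · rw [Function.update_of_ne hi]; simp
  refine ⟨Matrix.fromBlocks B 0 0 D, Matrix.fromBlocks 1 0 0 0, ?_, ?_, ?_, ?_, ?_, ?_, ?_, ?_⟩
  · rw [hstb, Matrix.fromBlocks_multiply, hB, hDst]
    simp
  · rw [Matrix.det_fromBlocks_zero₂₁, hDdet, mul_inv_cancel₀ hdet0]
  · rw [Matrix.fromBlocks_multiply]; simp
  · rw [hstb, st_one hK, st_zero hK]
  · intro h
    have := congrFun (congrFun h (Sum.inl ⟨0, by omega⟩)) (Sum.inl ⟨0, by omega⟩)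
    simp at this
  · intro h
    have := congrFun (congrFun h (Sum.inr i0)) (Sum.inr i0)
    simp at this
  · rw [Matrix.fromBlocks_multiply, Matrix.fromBlocks_multiply]; simp
  · rintro m ⟨c, hc⟩
    refine ⟨c, ?_⟩
    rw [Matrix.fromBlocks_diagonal_pow] at hc
    ext i j
    have := congrFun (congrFun hc (Sum.inl i)) (Sum.inl j)
    rw [Matrix.fromBlocks_apply₁₁] at this
    rw [this, Matrix.algebraMap_matrix_apply, Matrix.algebraMap_matrix_apply]
    simp [Sum.inl_injective.eq_iff]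

/-- The minimal polynomial of a unitary matrix is self-dual. -/
theorem uni_selfdual (hK : Fintype.card F = q ^ 2) (σ : F →+* F) (hσ : ∀ c, σ c = c ^ q)
    (g : Matrix (Fin n) (Fin n) F) (hg : st q g * g = 1) (h0 : (minpoly F g).coeff 0 ≠ 0) :
    Associated (dl σ (minpoly F g)) (minpoly F g) := by
  have hgg' : g * st q g = 1 := mul_eq_one_comm.1 hg
  have h1 : aeval (st q g) ((minpoly F g).map σ) = 0 := by
    rw [← st_aeval hK σ hσ, minpoly.aeval, st_zero hK]
  have h2 : minpoly F g ∣ dl σ (minpoly F g) := by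
    apply minpoly.dvd
    rw [aeval_dl σ hgg', h1, mul_zero]
  have hne : minpoly F g ≠ 0 := by intro hh; rw [hh] at h0; exact h0 (coeff_zero 0)
  exact (associated_of_dvd_of_natDegree_le h2 (dl_ne_zero σ hne) (natDegree_dl σ h0).le).symm

/-- A self-dual coprime factorisation gives a self-adjoint idempotent. -/
theorem uni_idempotent (hK : Fintype.card F = q ^ 2) (σ : F →+* F) (hσ : ∀ c, σ c = c ^ q)
    (g : Matrix (Fin n) (Fin n) F) (hg : st q g * g = 1) {a b : F[X]}
    (hab : minpoly F g = a * b) (hc : IsCoprime a b) (ha : ¬ IsUnit a) (hb : ¬ IsUnit b)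
    (hda : Associated (dl σ a) a) (hdb : Associated (dl σ b) b) :
    ∃ e : Matrix (Fin n) (Fin n) F, e * e = e ∧ st q e = e ∧ e ≠ 0 ∧ e ≠ 1 ∧ e * g = g * e := by
  have hgg' : g * st q g = 1 := mul_eq_one_comm.1 hg
  have hμ0 : minpoly F g ≠ 0 := minpoly.ne_zero (Algebra.IsIntegral.isIntegral _)
  obtain ⟨u, v, huv⟩ := id hc
  have hprod : aeval g (a * b) = 0 := by rw [← hab, minpoly.aeval]
  have hcg : ∀ (P Q : F[X]), Commute (aeval g P) (aeval g Q) := fun P Q => by
    show aeval g P * aeval g Q = aeval g Q * aeval g P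
    rw [← map_mul, mul_comm, map_mul]
  have hsg : Commute (st q g) g := by
    show st q g * g = g * st q g
    rw [hg, hgg']
  have hcs : ∀ (P : F[X]) (k : ℕ), Commute ((st q g) ^ k) (aeval g P) := by
    intro P k
    induction P using Polynomial.induction_on' with
    | add p r hp hr => rw [map_add]; exact hp.add_right hr
    | monomial m r =>
      rw [aeval_monomial]
      exact (Algebra.commute_algebraMap_right r _).mul_right (hsg.pow_pow k m)
  have hinvpow : ∀ k, (st q g) ^ k * g ^ k = 1 := by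
    intro k
    rw [← hsg.mul_pow, hg, one_pow]
  -- `a^σ(g⁻¹)` is a multiple of `a(g)`
  have hstk : ∀ c : F[X], Associated (dl σ c) c → ∃ k : ℕ, ∃ w : F[X],
      st q (aeval g c) = (st q g) ^ k * aeval g (c * w) := by
    intro c hcc
    obtain ⟨w, hw⟩ := hcc.symm.dvd
    refine ⟨c.natDegree, w, ?_⟩
    rw [st_aeval hK σ hσ, ← hw, aeval_dl σ hgg', ← mul_assoc, hinvpow, one_mul]
  have hkill : ∀ c d y z : F[X], Associated (dl σ c) c → c * d = minpoly F g →
      st q (aeval g (y * c)) * aeval g (z * d) = 0 := by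
    intro c d y z hcc hcd
    obtain ⟨k, w, hkw⟩ := hstk c hcc
    have h1 : st q (aeval g (y * c)) = st q (aeval g c) * st q (aeval g y) := by
      rw [map_mul, st_mul hK]
    have h2 : ∀ P : F[X], Commute (st q (aeval g y)) (aeval g P) := by
      intro P
      rw [st_aeval hK σ hσ]
      have h3 : ∀ Q : F[X], Commute (aeval (st q g) Q) (aeval g P) := by
        intro Q
        induction Q using Polynomial.induction_on' with
        | add p r hp hr => rw [map_add]; exact hp.add_left hr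
        | monomial m r =>
          rw [aeval_monomial]
          exact (Algebra.commute_algebraMap_left r _).mul_left (hcs P m)
      exact h3 _
    rw [h1, mul_assoc, (h2 _).eq, ← mul_assoc, hkw, mul_assoc ((st q g) ^ k), ← map_mul,
      show c * w * (z * d) = (w * z) * (c * d) by ring, hcd, map_mul, minpoly.aeval, mul_zero,
      mul_zero, zero_mul]
  set e := aeval g (u * a) with he
  have h1e : 1 - e = aeval g (v * b) := by
    have h3 : v * b = 1 - u * a := by rw [← huv]; ring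
    rw [h3, map_sub, map_one]
  have h1 : st q e * (1 - e) = 0 := by rw [h1e, he]; exact hkill a b u v hda hab.symm
  have h2 : st q (1 - e) * e = 0 := by
    rw [h1e, he]; exact hkill b a v u hdb (by rw [hab, mul_comm])
  have hes : st q e = e := by
    have h3 : st q e = st q e * e := by
      rw [mul_sub, mul_one, sub_eq_zero] at h1
      exact h1
    have h4 : st q (1 - e) = 1 - st q e := by
      have h5 := st_add hK (1 - e) e
      rw [sub_add_cancel, st_one hK] at h5
      exact eq_sub_of_add_eq h5.symm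
    rw [h4, sub_mul, one_mul, sub_eq_zero] at h2
    rw [h3]; exact h2.symm
  refine ⟨e, ?_, hes, ?_, ?_, ?_⟩
  · have h3 : u * a * (u * a) = u * a - u * v * (a * b) := by
      have : u * a = 1 - v * b := by rw [← huv]; ring
      calc u * a * (u * a) = u * a * (1 - v * b) := by rw [← this]
        _ = _ := by ring
    rw [he, ← map_mul, h3, map_sub, map_mul (aeval g) (u * v), hprod, mul_zero, sub_zero]
  · intro h
    have h1 := minpoly.dvd F g h
    rw [hab, mul_comm a b] at h1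
    have ha0 : a ≠ 0 := by rintro rfl; rw [zero_mul] at hab; exact hμ0 hab
    have h2 : b ∣ u := (mul_dvd_mul_iff_right ha0).1 h1
    apply hb
    rw [isUnit_iff_dvd_one, ← huv]
    exact dvd_add (h2.mul_right a) (Dvd.intro_left v rfl)
  · intro h
    have h3 : aeval g (v * b) = 0 := by
      rw [← h1e, h, sub_self]
    have h1 := minpoly.dvd F g h3
    rw [hab] at h1
    have hb0 : b ≠ 0 := by rintro rfl; rw [mul_zero] at hab; exact hμ0 hab
    have h2 : a ∣ v := (mul_dvd_mul_iff_right hb0).1 h1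
    apply ha
    rw [isUnit_iff_dvd_one, ← huv]
    exact dvd_add (Dvd.intro_left u rfl) (h2.mul_right b)
  · have h4 := hcg (u * a) X
    rw [aeval_X] at h4
    exact h4.eq

end Cfsg.Agent.H159
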